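import Cfsg.Agent.H372.FourList_m3
import Cfsg.Agent.H374.EightExc
import Cfsg.Prelude.Def_LieTypeChar
import Cfsg.Agent.H363.L4.OrdersB_m3
import Cfsg.Agent.H402.LwMain_m3
import Cfsg.Agent.H991.QuatQuot
import Cfsg.Agent.H402.LwU43_m3
import Cfsg.Agent.H374.SpFour
import Cfsg.Agent.S2475
import Cfsg.Agent.S1159
import Cfsg.Agent.S0813
import Cfsg.Agent.ClassicalGeometry.PSL2Basic
import Cfsg.Agent.FastGrp
import Cfsg.Agent.Prune
set_option linter.all false

section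
prune_inst 0x7ffdfcfbbff93ddfffff7e7fffd9dffc19d4dfffffdffb4bffe8fbffbfbf231219e5fbad9de0d8ff0ed7e2b630b87853fbfeceffef6bdc7ffffd5ff45ffbee0fb5e7bd8d31d6ad241f740fffe3f07f8e7f3fffffffffffffffffffffffffffbefffdffffffff

-- part: H402/Rec/NoEight
section
set_option linter.all false

/-!
# Known simple groups without elements of order 8
-/

set_option autoImplicit false

namespace Cfsg.Agent.H402.Rec

open Cfsg Cfsg.Agent.H372

variable {S : Type*} [Group S]

/-- The groups of odd characteristic without elements of order 8. -/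
def OddSmall (S : Type*) [Group S] : Prop :=
  (∃ (F : Type) (_ : Field F) (_ : Fintype F), (2 : F) ≠ 0 ∧ 4 ≤ Fintype.card F ∧
    Nonempty (S ≃* Matrix.ProjectiveSpecialLinearGroup (Fin 2) F)) ∨
  (∃ (F : Type) (_ : Field F) (_ : Fintype F), (2 : F) ≠ 0 ∧ Nonempty (S ≃* PSp 2 F)) ∨ Lie.IsoRee S

/-- **Known simple groups without elements of order 8.** -/
theorem list_no_eight (hk : IsKnownSimple' S) (h8 : ∀ x : S, orderOf x ≠ 8) :
    IsPrimeCyclic S ∨ IsAlternating S ∨ IsSporadicGroup S ∨ IsLieTypeChar 2 S ∨ OddSmall S := by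
  have h8' : ¬ ∃ x : S, orderOf x = 8 := fun ⟨x, hx⟩ => h8 x hx
  have hch : ∀ (F : Type) [Field F], (2 : F) = 0 → CharP F 2 := fun F _ h2 =>
    CharTwo.of_one_ne_zero_of_two_eq_zero one_ne_zero h2
  rcases hk with h | h | h | h | h | h | h | h | h | h
  · exact Or.inl h
  · exact Or.inr (Or.inl h)
  · obtain ⟨F, iF, iF', n, hn, h4, ⟨e⟩⟩ := h
    by_cases h2 : (2 : F) = 0
    · exact Or.inr (Or.inr (Or.inr (Or.inl (Or.inl ⟨F, iF, iF', hch F h2, n, hn, h4, ⟨e⟩⟩))))
    · rcases Nat.lt_or_ge n 3 with h5 | h5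
      · obtain rfl : n = 2 := by omega
        exact Or.inr (Or.inr (Or.inr (Or.inr (Or.inl ⟨F, iF, iF', h2, h4 rfl, ⟨e⟩⟩))))
      · exact absurd (exists_eight_of_equiv e (exists_eight_psl_odd h2 h5)) h8'
  · obtain ⟨F, iF, iF', m, hm, h4, ⟨e⟩⟩ := h
    by_cases h2 : (2 : F) = 0
    · exact Or.inr (Or.inr (Or.inr (Or.inl (Or.inr (Or.inl ⟨F, iF, iF', hch F h2, m, hm, h4, ⟨e⟩⟩)))))
    · rcases Nat.lt_or_ge m 3 with h5 | h5
      · obtain rfl : m = 2 := by omega
        exact Or.inr (Or.inr (Or.inr (Or.inr (Or.inr (Or.inl ⟨F, iF, iF', h2, ⟨e⟩⟩)))))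
      · exact absurd (exists_eight_of_equiv e (exists_eight_psp_odd h2 h5)) h8'
  · obtain ⟨F, iF, iF', n, q, hF, hn, h32, ⟨e⟩⟩ := h
    by_cases h2 : (2 : F) = 0
    · exact Or.inr (Or.inr (Or.inr (Or.inl (Or.inr (Or.inr (Or.inl
        ⟨F, iF, iF', hch F h2, n, q, hF, hn, h32, ⟨e⟩⟩))))))
    · exact absurd (exists_eight_of_equiv e (exists_eight_psu_odd hF h2 hn)) h8'
  · exact absurd (exists_eight_isPOmegaOdd h) h8'
  · exact absurd (exists_eight_isPOmegaPlus h) h8'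
  · exact absurd (exists_eight_isPOmegaMinus h) h8'
  · rcases Cfsg.Agent.H374.EightExc.exceptional h with h | h | h
    · exact absurd h h8'
    · exact Or.inr (Or.inr (Or.inr (Or.inl
        (Or.inr (Or.inr (Or.inr (Or.inr (Or.inr (Or.inr (Or.inr (Or.inr (Or.inl ⟨rfl, h⟩))))))))))))
    · exact Or.inr (Or.inr (Or.inr (Or.inr (Or.inr (Or.inr h)))))
  · exact Or.inr (Or.inr (Or.inl h))

end Cfsg.Agent.H402.Rec
end

-- part: H402/Rec/Cand2
section
prune_inst 0x203044006c2200000018000242003c22b2000000000b000170400404058ede20a0402621e2200d0280c410441870004013100100420000000a003000011f04a180220000912ca000260001803007180c00000000000000000000000000041000200000000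
set_option linter.all false
open scoped Cfsg.Agent.FastGrp

/-!
# Recognition of `PSL_4(q)`, `PSU_4(q)`, `q = 2 ^ k`, `k ≥ 2`: what is known about the simple section
-/

set_option autoImplicit false

namespace Cfsg.Agent.H402.Rec

/-- `q³ ∓ 1` -/
def M3 (e : Bool) (q : ℕ) : ℕ := if e then q ^ 3 - 1 else q ^ 3 + 1

/-- `(q² + 1) (q ± 1)` -/
def M4 (e : Bool) (q : ℕ) : ℕ := if e then (q ^ 2 + 1) * (q + 1) else (q ^ 2 + 1) * (q - 1)

/-- `q ∓ 1` -/
def M1 (e : Bool) (q : ℕ) : ℕ := if e then q - 1 else q + 1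

/-- the part of `q² ± q + 1` prime to 3 (for `q` prime to 3) -/
def Q3 (e : Bool) (q : ℕ) : ℕ := R3 e q / Nat.gcd 3 (R3 e q)

/-- What is known about the simple section `S` of a group isospectral to `PSL_4(2 ^ k)` (`e = true`) or
`PSU_4(2 ^ k)` (`e = false`), `k ≥ 2`. -/
structure Cand2 (e : Bool) (k : ℕ) (S : Type*) [Group S] : Prop where
  hk : 2 ≤ k
  spec : ∀ x : S, orderOf x ∣ M3 e (2 ^ k) ∨ orderOf x ∣ M4 e (2 ^ k) ∨ orderOf x ∣ 2 * ((2 ^ k) ^ 2 - 1) ∨
    orderOf x ∣ 4 * M1 e (2 ^ k)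
  ex3 : ∃ x : S, orderOf x = Q3 e (2 ^ k)
  ex4 : ∃ x : S, orderOf x = (2 ^ k) ^ 2 + 1

section Arith2

variable {e : Bool} {q r : ℕ}

/-- `± q` -/
def sg (e : Bool) (q : ℕ) : ℤ := if e then (q : ℤ) else -q

theorem sg_sq (e : Bool) (q : ℕ) : sg e q ^ 2 = (q : ℤ) ^ 2 := by
  unfold sg; split_ifs <;> ring

theorem R3_sg (e : Bool) {q : ℕ} (hq : 1 ≤ q) : ((R3 e q : ℕ) : ℤ) = sg e q ^ 2 + sg e q + 1 := R3_int e hq

theorem M3_sg (e : Bool) {q : ℕ} (hq : 1 ≤ q) (r : ℤ) : r ∣ (M3 e q : ℤ) ↔ r ∣ sg e q ^ 3 - 1 := by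
  have h3 : 1 ≤ q ^ 3 := Nat.one_le_pow _ _ hq
  cases e
  · have : ((M3 false q : ℕ) : ℤ) = -(sg false q ^ 3 - 1) := by
      show ((q ^ 3 + 1 : ℕ) : ℤ) = _
      simp only [sg, Bool.false_eq_true, if_false]
      push_cast; ring
    rw [this, dvd_neg]
  · have : ((M3 true q : ℕ) : ℤ) = sg true q ^ 3 - 1 := by
      show ((q ^ 3 - 1 : ℕ) : ℤ) = _
      simp only [sg, if_true]
      rw [Nat.cast_sub h3]; push_cast; ring
    rw [this]

theorem M4_sg (e : Bool) {q : ℕ} (hq : 1 ≤ q) (r : ℤ) : r ∣ (M4 e q : ℤ) ↔ r ∣ (sg e q ^ 2 + 1) * (sg e q + 1) := by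
  cases e
  · have : ((M4 false q : ℕ) : ℤ) = -((sg false q ^ 2 + 1) * (sg false q + 1)) := by
      show (((q ^ 2 + 1) * (q - 1) : ℕ) : ℤ) = _
      simp only [sg, Bool.false_eq_true, if_false]
      rw [Nat.cast_mul, Nat.cast_sub hq]; push_cast; ring
    rw [this, dvd_neg]
  · have : ((M4 true q : ℕ) : ℤ) = (sg true q ^ 2 + 1) * (sg true q + 1) := by
      show (((q ^ 2 + 1) * (q + 1) : ℕ) : ℤ) = _
      simp only [sg, if_true]
      push_cast; ring
    rw [this]

theorem M1_sg (e : Bool) {q : ℕ} (hq : 1 ≤ q) (r : ℤ) : r ∣ (M1 e q : ℤ) ↔ r ∣ sg e q - 1 := by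
  cases e
  · have : ((M1 false q : ℕ) : ℤ) = -(sg false q - 1) := by
      show ((q + 1 : ℕ) : ℤ) = _
      simp only [sg, Bool.false_eq_true, if_false]
      push_cast; ring
    rw [this, dvd_neg]
  · have : ((M1 true q : ℕ) : ℤ) = sg true q - 1 := by
      show ((q - 1 : ℕ) : ℤ) = _
      simp only [sg, if_true]
      rw [Nat.cast_sub hq]; push_cast; ring
    rw [this]

theorem sq_sub_one_sg (e : Bool) {q : ℕ} (hq : 1 ≤ q) : ((q ^ 2 - 1 : ℕ) : ℤ) = sg e q ^ 2 - 1 := by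
  rw [Nat.cast_sub (Nat.one_le_pow _ _ hq), sg_sq]; push_cast; ring

theorem M1_dvd (e : Bool) {q : ℕ} (hq : 1 ≤ q) : M1 e q ∣ q ^ 2 - 1 := by
  have : ((M1 e q : ℕ) : ℤ) ∣ ((q ^ 2 - 1 : ℕ) : ℤ) := by
    rw [sq_sub_one_sg e hq]
    have h1 := (M1_sg e hq ((M1 e q : ℕ) : ℤ)).1 dvd_rfl
    have h2 : sg e q ^ 2 - 1 = (sg e q - 1) * (sg e q + 1) := by ring
    rw [h2]
    exact h1.mul_right _
  exact_mod_cast this

/-- `9` does not divide `q² ± q + 1` -/
theorem not_nine_R3 (e : Bool) {q : ℕ} (hq : 1 ≤ q) : ¬ 9 ∣ R3 e q := by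
  intro h
  have h1 : ((9 : ℕ) : ℤ) ∣ ((R3 e q : ℕ) : ℤ) := Int.natCast_dvd_natCast.2 h
  rw [R3_sg e hq] at h1
  have h2 : (sg e q ^ 2 + sg e q + 1) % 9 = 0 := Int.emod_eq_zero_of_dvd h1
  have h3 : sg e q % 9 = 0 ∨ sg e q % 9 = 1 ∨ sg e q % 9 = 2 ∨ sg e q % 9 = 3 ∨ sg e q % 9 = 4 ∨ sg e q % 9 = 5 ∨
      sg e q % 9 = 6 ∨ sg e q % 9 = 7 ∨ sg e q % 9 = 8 := by omega
  rcases h3 with h3 | h3 | h3 | h3 | h3 | h3 | h3 | h3 | h3 <;>
  · rw [Int.add_emod, Int.add_emod (sg e q ^ 2), pow_two, Int.mul_emod, h3] at h2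
    revert h2
    decide

theorem Q3_dvd (e : Bool) (q : ℕ) : Q3 e q ∣ R3 e q := Nat.div_dvd_of_dvd (Nat.gcd_dvd_right _ _)

theorem Q3_mul (e : Bool) (q : ℕ) : Nat.gcd 3 (R3 e q) * Q3 e q = R3 e q := Nat.mul_div_cancel' (Nat.gcd_dvd_right _ _)

theorem gcd_three (m : ℕ) : Nat.gcd 3 m = 1 ∨ Nat.gcd 3 m = 3 :=
  (Nat.dvd_prime Nat.prime_three).1 (Nat.gcd_dvd_left 3 m)

theorem not_three_Q3 (e : Bool) {q : ℕ} (hq : 1 ≤ q) : ¬ 3 ∣ Q3 e q := by
  intro h
  have h0 : 3 ∣ R3 e q := h.trans (Q3_dvd e q)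
  have h1 := Q3_mul e q
  have h2 : Nat.gcd 3 (R3 e q) = 3 := Nat.gcd_eq_left h0
  rw [h2] at h1
  apply not_nine_R3 e hq
  rw [← h1]
  exact (show (9 : ℕ) = 3 * 3 from rfl) ▸ Nat.mul_dvd_mul_left 3 h

theorem R3_odd' (e : Bool) (q : ℕ) : R3 e q % 2 = 1 := by
  have h1 : q ≤ q ^ 2 := Nat.le_self_pow two_ne_zero q
  have h3 : q ^ 2 % 2 = q % 2 := by
    rcases Nat.mod_two_eq_zero_or_one q with h | h <;> rw [Nat.pow_mod, h]
  cases e
  · show (q ^ 2 - q + 1) % 2 = 1
    omega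
  · show (q ^ 2 + q + 1) % 2 = 1
    omega

theorem Q3_odd (e : Bool) (q : ℕ) : Q3 e q % 2 = 1 := by
  by_contra h
  have h2 : 2 ∣ Q3 e q := by omega
  have h3 := h2.trans (Q3_dvd e q)
  have h4 := R3_odd' e q
  omega

/-- A prime divisor of `Q3` does not divide `(q² - 1) (q² + 1) (q ± 1)`. -/
theorem of_dvd_Q3 (hq : 1 ≤ q) (hr : r.Prime) (h : r ∣ Q3 e q) :
    ¬ r ∣ q ^ 2 - 1 ∧ ¬ r ∣ M4 e q ∧ ¬ r ∣ M1 e q ∧ r ≠ 2 ∧ r ≠ 3 := by
  have hr3 : r ≠ 3 := by
    rintro rfl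
    exact not_three_Q3 e hq h
  have hr2 : r ≠ 2 := by
    rintro rfl
    have := Q3_odd e q
    omega
  have hi : (r : ℤ) ∣ (R3 e q : ℤ) := Int.natCast_dvd_natCast.2 (h.trans (Q3_dvd e q))
  rw [R3_sg e hq] at hi
  have hp : Prime (r : ℤ) := Nat.prime_iff_prime_int.1 hr
  set x : ℤ := sg e q with hx
  have h1 : ¬ (r : ℤ) ∣ x - 1 := by
    intro h5
    have h6 : (r : ℤ) ∣ 3 := by
      have : (3 : ℤ) = (x ^ 2 + x + 1) - (x - 1) * (x + 2) := by ring
      rw [this]
      exact dvd_sub hi (h5.mul_right _)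
    have h7 : r ∣ 3 := by exact_mod_cast h6
    exact hr3 ((Nat.prime_dvd_prime_iff_eq hr Nat.prime_three).1 h7)
  have h2 : ¬ (r : ℤ) ∣ x + 1 := by
    intro h5
    have h6 : (r : ℤ) ∣ 1 := by
      have : (1 : ℤ) = (x ^ 2 + x + 1) - (x + 1) * x := by ring
      rw [this]
      exact dvd_sub hi (h5.mul_right _)
    exact hp.not_dvd_one h6
  have h3 : ¬ (r : ℤ) ∣ x ^ 2 + 1 := by
    intro h5
    have h6 : (r : ℤ) ∣ x := by
      have : x = (x ^ 2 + x + 1) - (x ^ 2 + 1) := by ring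
      rw [this]
      exact dvd_sub hi h5
    have h7 : (r : ℤ) ∣ 1 := by
      have : (1 : ℤ) = (x ^ 2 + 1) - x * x := by ring
      rw [this]
      exact dvd_sub h5 (h6.mul_right _)
    exact hp.not_dvd_one h7
  refine ⟨?_, ?_, ?_, hr2, hr3⟩
  · intro h5
    have h6 := Int.natCast_dvd_natCast.2 h5
    rw [sq_sub_one_sg e hq] at h6
    have h7 : (r : ℤ) ∣ (x - 1) * (x + 1) := by
      rwa [show (x - 1) * (x + 1) = x ^ 2 - 1 by ring]
    rcases hp.dvd_or_dvd h7 with h8 | h8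
    · exact h1 h8
    · exact h2 h8
  · intro h5
    rcases hp.dvd_or_dvd ((M4_sg e hq _).1 (Int.natCast_dvd_natCast.2 h5)) with h8 | h8
    · exact h3 h8
    · exact h2 h8
  · intro h5
    exact h1 ((M1_sg e hq _).1 (Int.natCast_dvd_natCast.2 h5))

/-- A prime divisor of `q² + 1`, `q` even, does not divide `(q² - 1) (q³ ∓ 1)`. -/
theorem of_dvd_Q4 (hq : 1 ≤ q) (h2 : q % 2 = 0) (hr : r.Prime) (h : r ∣ q ^ 2 + 1) :
    ¬ r ∣ q ^ 2 - 1 ∧ ¬ r ∣ M3 e q ∧ ¬ r ∣ M1 e q ∧ r ≠ 2 ∧ r ≠ 3 := by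
  have hr2 : r ≠ 2 := by
    rintro rfl
    have : q ^ 2 % 2 = 0 := by rw [Nat.pow_mod, h2]
    omega
  have hr3 : r ≠ 3 := by
    rintro rfl
    have h3 : q % 3 = 0 ∨ q % 3 = 1 ∨ q % 3 = 2 := by omega
    have h4 : q ^ 2 % 3 = 0 ∨ q ^ 2 % 3 = 1 := by
      rcases h3 with h3 | h3 | h3
      · left; rw [Nat.pow_mod, h3]
      · right; rw [Nat.pow_mod, h3]
      · right; rw [Nat.pow_mod, h3]
    omega
  have hi : (r : ℤ) ∣ ((q ^ 2 + 1 : ℕ) : ℤ) := Int.natCast_dvd_natCast.2 h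
  have hp : Prime (r : ℤ) := Nat.prime_iff_prime_int.1 hr
  rw [show ((q ^ 2 + 1 : ℕ) : ℤ) = sg e q ^ 2 + 1 by rw [sg_sq]; push_cast; ring] at hi
  set x : ℤ := sg e q with hx
  have h1 : ¬ (r : ℤ) ∣ x ^ 2 - 1 := by
    intro h5
    have h6 : (r : ℤ) ∣ 2 := by
      have : (2 : ℤ) = (x ^ 2 + 1) - (x ^ 2 - 1) := by ring
      rw [this]
      exact dvd_sub hi h5
    have h7 : r ∣ 2 := by exact_mod_cast h6
    exact hr2 ((Nat.prime_dvd_prime_iff_eq hr Nat.prime_two).1 h7)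
  refine ⟨?_, ?_, ?_, hr2, hr3⟩
  · intro h5
    have h6 := Int.natCast_dvd_natCast.2 h5
    rw [sq_sub_one_sg e hq] at h6
    exact h1 h6
  · intro h5
    have h6 := (M3_sg e hq _).1 (Int.natCast_dvd_natCast.2 h5)
    have h7 : (r : ℤ) ∣ x + 1 := by
      have : x + 1 = x * (x ^ 2 + 1) - (x ^ 3 - 1) := by ring
      rw [this]
      exact dvd_sub (hi.mul_left _) h6
    apply h1
    have : x ^ 2 - 1 = (x + 1) * (x - 1) := by ring
    rw [this]
    exact h7.mul_right _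
  · intro h5
    have h6 := (M1_sg e hq _).1 (Int.natCast_dvd_natCast.2 h5)
    apply h1
    have : x ^ 2 - 1 = (x - 1) * (x + 1) := by ring
    rw [this]
    exact h6.mul_right _

theorem M3_odd (e : Bool) (hq : 1 ≤ q) (h2 : q % 2 = 0) : M3 e q % 2 = 1 := by
  have h3 : q ^ 3 % 2 = 0 := by rw [Nat.pow_mod, h2]
  have h4 : 1 ≤ q ^ 3 := Nat.one_le_pow _ _ hq
  cases e
  · show (q ^ 3 + 1) % 2 = 1
    omega
  · show (q ^ 3 - 1) % 2 = 1
    omega

theorem M4_odd (e : Bool) (hq : 1 ≤ q) (h2 : q % 2 = 0) : M4 e q % 2 = 1 := by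
  have h3 : (q ^ 2 + 1) % 2 = 1 := by
    have : q ^ 2 % 2 = 0 := by rw [Nat.pow_mod, h2]
    omega
  cases e
  · show ((q ^ 2 + 1) * (q - 1)) % 2 = 1
    rw [Nat.mul_mod, h3, show (q - 1) % 2 = 1 by omega]
  · show ((q ^ 2 + 1) * (q + 1)) % 2 = 1
    rw [Nat.mul_mod, h3, show (q + 1) % 2 = 1 by omega]

end Arith2

namespace Cand2

variable {e : Bool} {k : ℕ} {S : Type*} [Group S]

theorem of_equiv {T : Type*} [Group T] (E : S ≃* T) (h : Cand2 e k S) : Cand2 e k T := by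
  have key : ∀ n : ℕ, (∃ x : S, orderOf x = n) → ∃ x : T, orderOf x = n := by
    rintro n ⟨x, hx⟩
    exact ⟨E x, by rw [MulEquiv.orderOf_eq, hx]⟩
  refine ⟨h.hk, fun x => ?_, key _ h.ex3, key _ h.ex4⟩
  have := h.spec (E.symm x)
  rwa [MulEquiv.orderOf_eq] at this

theorem mod_four (h : Cand2 e k S) : 2 ^ k % 4 = 0 ∧ 4 ≤ 2 ^ k := by
  obtain ⟨j, hj⟩ := Nat.exists_eq_add_of_le h.hk
  have h1 : 2 ^ k = 4 * 2 ^ j := by rw [hj, pow_add]; norm_num
  have h2 : 1 ≤ 2 ^ j := Nat.one_le_two_pow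
  omega

theorem one_le (h : Cand2 e k S) : 1 ≤ 2 ^ k := by have := h.mod_four; omega

theorem even (h : Cand2 e k S) : 2 ^ k % 2 = 0 := by have := h.mod_four; omega

theorem of_even (h : Cand2 e k S) {x : S} (hx : 2 ∣ orderOf x) :
    orderOf x ∣ 2 * ((2 ^ k) ^ 2 - 1) ∨ orderOf x ∣ 4 * M1 e (2 ^ k) := by
  rcases h.spec x with h1 | h1 | h1 | h1
  · have h2 := hx.trans h1
    have h3 := M3_odd e h.one_le h.even
    omega
  · have h2 := hx.trans h1
    have h3 := M4_odd e h.one_le h.even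
    omega
  · exact Or.inl h1
  · exact Or.inr h1

theorem abs3 (h : Cand2 e k S) {r : ℕ} (hr : r.Prime) (hrd : r ∣ Q3 e (2 ^ k)) {x : S} (hx : r ∣ orderOf x) :
    orderOf x ∣ M3 e (2 ^ k) := by
  obtain ⟨h1, h2, h3, h4, -⟩ := of_dvd_Q3 h.one_le hr hrd
  rcases h.spec x with h5 | h5 | h5 | h5
  · exact h5
  · exact absurd (hx.trans h5) h2
  · exfalso
    rcases (hr.dvd_mul).1 (hx.trans h5) with h6 | h6
    · exact h4 ((Nat.prime_dvd_prime_iff_eq hr Nat.prime_two).1 h6)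
    · exact h1 h6
  · exfalso
    rcases (hr.dvd_mul).1 (hx.trans h5) with h6 | h6
    · have : r ∣ 2 ^ 2 := by simpa using h6
      exact h4 ((Nat.prime_dvd_prime_iff_eq hr Nat.prime_two).1 (hr.dvd_of_dvd_pow this))
    · exact h3 h6

theorem abs4 (h : Cand2 e k S) {r : ℕ} (hr : r.Prime) (hrd : r ∣ (2 ^ k) ^ 2 + 1) {x : S} (hx : r ∣ orderOf x) :
    orderOf x ∣ M4 e (2 ^ k) := by
  obtain ⟨h1, h2, h3, h4, -⟩ := of_dvd_Q4 (e := e) h.one_le h.even hr hrd
  rcases h.spec x with h5 | h5 | h5 | h5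
  · exact absurd (hx.trans h5) h2
  · exact h5
  · exfalso
    rcases (hr.dvd_mul).1 (hx.trans h5) with h6 | h6
    · exact h4 ((Nat.prime_dvd_prime_iff_eq hr Nat.prime_two).1 h6)
    · exact h1 h6
  · exfalso
    rcases (hr.dvd_mul).1 (hx.trans h5) with h6 | h6
    · have : r ∣ 2 ^ 2 := by simpa using h6
      exact h4 ((Nat.prime_dvd_prime_iff_eq hr Nat.prime_two).1 (hr.dvd_of_dvd_pow this))
    · exact h3 h6

theorem not_eight (h : Cand2 e k S) {x : S} : ¬ 8 ∣ orderOf x := by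
  intro h8
  have hm := h.mod_four
  have hsq : (2 ^ k) ^ 2 % 4 = 0 := by rw [Nat.pow_mod, hm.1]
  have hsq1 : 1 ≤ (2 ^ k) ^ 2 := Nat.one_le_pow _ _ h.one_le
  rcases h.of_even ((show 2 ∣ 8 by decide).trans h8) with h1 | h1
  · have h2 := h8.trans h1
    set a := (2 ^ k) ^ 2
    omega
  · have h2 := h8.trans h1
    have h3 : M1 e (2 ^ k) % 2 = 1 := by
      cases e
      · show (2 ^ k + 1) % 2 = 1
        omega
      · show (2 ^ k - 1) % 2 = 1
        omega
    omega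

theorem ne_eight (h : Cand2 e k S) (x : S) : orderOf x ≠ 8 := by
  intro hx
  exact h.not_eight (x := x) (by rw [hx])

/-- elements of even order -/
theorem even_le (h : Cand2 e k S) {x : S} (hx : 2 ∣ orderOf x) : orderOf x ≤ 2 * ((2 ^ k) ^ 2 - 1) := by
  have hm := h.mod_four
  have h4 : 4 * 2 ^ k ≤ (2 ^ k) ^ 2 := by
    rw [pow_two]; exact Nat.mul_le_mul_right _ hm.2
  rcases h.of_even hx with h1 | h1
  · exact Nat.le_of_dvd (by omega) h1
  · have h3 : M1 e (2 ^ k) ≤ 2 ^ k + 1 ∧ 0 < M1 e (2 ^ k) := by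
      cases e
      · exact ⟨le_rfl, Nat.succ_pos _⟩
      · constructor
        · show 2 ^ k - 1 ≤ _
          omega
        · show 0 < 2 ^ k - 1
          omega
    have h5 := Nat.le_of_dvd (by omega) h1
    omega

/-- An odd divisor of an even element order divides `q² - 1`. -/
theorem odd_dvd (h : Cand2 e k S) {x : S} (hx : 2 ∣ orderOf x) {m : ℕ} (hm : m % 2 = 1) (hmx : m ∣ orderOf x) :
    m ∣ (2 ^ k) ^ 2 - 1 := by
  have hcop : Nat.Coprime m 2 := by
    rw [Nat.coprime_two_right, Nat.odd_iff]; exact hm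
  rcases h.of_even hx with h1 | h1
  · exact hcop.dvd_of_dvd_mul_left (hmx.trans h1)
  · have : Nat.Coprime m 4 := (show (4 : ℕ) = 2 ^ 2 by norm_num) ▸ Nat.Coprime.pow_right 2 hcop
    exact (this.dvd_of_dvd_mul_left (hmx.trans h1)).trans (M1_dvd e h.one_le)

theorem one_lt_Q3 (h : Cand2 e k S) : 4 < Q3 e (2 ^ k) := by
  have hm := h.mod_four
  have h4 : 4 * 2 ^ k ≤ (2 ^ k) ^ 2 := by
    rw [pow_two]; exact Nat.mul_le_mul_right _ hm.2
  have h1 := Q3_mul e (2 ^ k)
  have h3 : 13 ≤ R3 e (2 ^ k) := by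
    cases e
    · show 13 ≤ (2 ^ k) ^ 2 - 2 ^ k + 1
      omega
    · show 13 ≤ (2 ^ k) ^ 2 + 2 ^ k + 1
      omega
  rcases gcd_three (R3 e (2 ^ k)) with h2 | h2 <;> rw [h2] at h1
  · omega
  · omega

theorem exists_primes (h : Cand2 e k S) : ∃ r s : ℕ, r.Prime ∧ s.Prime ∧ r ∣ Q3 e (2 ^ k) ∧ s ∣ (2 ^ k) ^ 2 + 1 := by
  obtain ⟨r, hr, hrd⟩ := Nat.exists_prime_and_dvd (show Q3 e (2 ^ k) ≠ 1 by have := h.one_lt_Q3; omega)
  obtain ⟨s, hs, hsd⟩ := Nat.exists_prime_and_dvd (show (2 ^ k) ^ 2 + 1 ≠ 1 by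
    have h1 : 1 ≤ (2 ^ k) ^ 2 := Nat.one_le_pow _ _ h.one_le
    omega)
  exact ⟨r, s, hr, hs, hrd, hsd⟩

/-- No element order is divisible by prime divisors of both numbers. -/
theorem not_both (h : Cand2 e k S) {r s : ℕ} (hr : r.Prime) (hs : s.Prime) (hrd : r ∣ Q3 e (2 ^ k))
    (hsd : s ∣ (2 ^ k) ^ 2 + 1) {x : S} (h1 : r ∣ orderOf x) (h2 : s ∣ orderOf x) : False :=
  (of_dvd_Q4 (e := e) h.one_le h.even hs hsd).2.1 (h2.trans (h.abs3 hr hrd h1))

theorem not_even3 (h : Cand2 e k S) {r : ℕ} (hr : r.Prime) (hrd : r ∣ Q3 e (2 ^ k)) {x : S} (hx : r ∣ orderOf x) :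
    orderOf x % 2 = 1 := by
  have h1 := h.abs3 hr hrd hx
  have h2 := M3_odd e h.one_le h.even
  by_contra h3
  have h4 : 2 ∣ orderOf x := by omega
  have h5 := h4.trans h1
  omega

theorem not_even4 (h : Cand2 e k S) {r : ℕ} (hr : r.Prime) (hrd : r ∣ (2 ^ k) ^ 2 + 1) {x : S} (hx : r ∣ orderOf x) :
    orderOf x % 2 = 1 := by
  have h1 := h.abs4 hr hrd hx
  have h2 := M4_odd e h.one_le h.even
  by_contra h3
  have h4 : 2 ∣ orderOf x := by omega
  have h5 := h4.trans h1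
  omega

end Cand2

end Cfsg.Agent.H402.Rec

private theorem dce_50542beca667 : _root_.True := by
  try have : _root_.True := by simp only [_root_.Cfsg.Agent.H402.Rec.sg.eq_1]
  exact _root_.True.intro
end

-- part: H402/Rec/Fact
section
prune_inst 0x200000082200000000000242001e0292000000000b0001500004040c86de2000002620c0200c020000808400300040000000000000000000000000011900a0800004001101ac08960001801005180c00000000000000000000000000041000000000000
set_option linter.all false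
open scoped Cfsg.Agent.FastGrp

-- part: H402/Rec/L2Clause
section
/-!
# Elements of order `2 t`, `t ≥ 5` prime, in groups with a section `PSL_2(u)`, `u` odd

If `K` is a normal subgroup of odd order of `G` and `S ≅ PSL_2(u)`, `u` odd, is a normal subgroup of `G / K`, then for
every prime `t ≥ 5` dividing `|K| |G / K : S|` there is an element of order `2 t` in `G`.
-/

set_option autoImplicit false

namespace Cfsg.Agent.H402.Rec

open Subgroup

section Dih

theorem two_mul_half {k : ℕ} (hk : 1 ≤ k) : ((2 ^ (k - 1) : ℕ) : ZMod (2 ^ k)) + ((2 ^ (k - 1) : ℕ) : ZMod (2 ^ k)) = 0 := by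
  rw [← Nat.cast_add, ← two_mul, ← pow_succ', Nat.sub_add_cancel hk]
  exact ZMod.natCast_self _

theorem half_ne_zero {k : ℕ} (hk : 1 ≤ k) : ((2 ^ (k - 1) : ℕ) : ZMod (2 ^ k)) ≠ 0 := by
  intro h
  rw [ZMod.natCast_eq_zero_iff] at h
  have h1 := Nat.le_of_dvd (by positivity) h
  have h2 : 2 ^ (k - 1) < 2 ^ k := Nat.pow_lt_pow_right (by norm_num) (by omega)
  omega

/-- The rotation of order two. -/
theorem orderOf_half {k : ℕ} (hk : 1 ≤ k) : orderOf (DihedralGroup.r ((2 ^ (k - 1) : ℕ) : ZMod (2 ^ k))) = 2 := by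
  apply orderOf_eq_prime
  · rw [pow_two, DihedralGroup.r_mul_r, two_mul_half hk, ← DihedralGroup.one_def]
  · intro h
    rw [DihedralGroup.one_def] at h
    exact half_ne_zero hk (DihedralGroup.r.inj h)

theorem half_central {k : ℕ} (hk : 1 ≤ k) (d : DihedralGroup (2 ^ k)) :
    DihedralGroup.r ((2 ^ (k - 1) : ℕ) : ZMod (2 ^ k)) * d = d * DihedralGroup.r ((2 ^ (k - 1) : ℕ) : ZMod (2 ^ k)) := by
  have h := two_mul_half hk
  rcases d with i | i
  · rw [DihedralGroup.r_mul_r, DihedralGroup.r_mul_r, add_comm]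
  · rw [DihedralGroup.r_mul_sr, DihedralGroup.sr_mul_r]
    congr 1
    rw [sub_eq_add_neg]
    congr 1
    exact neg_eq_of_add_eq_zero_left h

/-- For `k ≥ 2` the only central element of order two is the rotation. -/
theorem central_unique {k : ℕ} (hk : 2 ≤ k) {d : DihedralGroup (2 ^ k)} (hd : d ≠ 1) (hc : ∀ x, d * x = x * d) :
    d = DihedralGroup.r ((2 ^ (k - 1) : ℕ) : ZMod (2 ^ k)) := by
  have : NeZero (2 ^ k) := ⟨by positivity⟩
  rcases d with i | i
  · have h1 := hc (DihedralGroup.sr 0)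
    rw [DihedralGroup.r_mul_sr, DihedralGroup.sr_mul_r] at h1
    have h2 := DihedralGroup.sr.inj h1
    have h3 : i + i = 0 := by
      have : (0 : ZMod (2 ^ k)) - i + i = 0 + i + i := by rw [h2]
      simpa only [_root_.zero_add, _root_.zero_sub, _root_.neg_add_cancel] using this.symm
    congr 1
    have h4 : (((i.val + i.val : ℕ)) : ZMod (2 ^ k)) = 0 := by
      rw [Nat.cast_add, ZMod.natCast_zmod_val, h3]
    rw [ZMod.natCast_eq_zero_iff] at h4
    have h5 : i.val < 2 ^ k := ZMod.val_lt i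
    have h6 : 2 ^ k = 2 * 2 ^ (k - 1) := by
      rw [← pow_succ', Nat.sub_add_cancel (by omega)]
    have h7 : i.val ≠ 0 := by
      intro h8
      apply hd
      rw [DihedralGroup.one_def]
      congr 1
      exact (ZMod.val_eq_zero i).1 h8
    obtain ⟨c, hc'⟩ := h4
    have h8 : i.val = 2 ^ (k - 1) := by
      have h9 : i.val = 2 ^ (k - 1) * c := by
        have h6' : 2 ^ k * c = 2 * (2 ^ (k - 1) * c) := by rw [h6, mul_assoc]
        omega
      have h10 : c = 1 := by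
        have h11 : c ≠ 0 := by
          rintro rfl
          rw [mul_zero] at h9
          exact h7 h9
        have h12 : c < 2 := by
          by_contra h13
          have : 2 ^ (k - 1) * 2 ≤ 2 ^ (k - 1) * c := Nat.mul_le_mul_left _ (by omega)
          omega
        omega
      rw [h9, h10, mul_one]
    rw [← h8, ZMod.natCast_zmod_val]
  · exfalso
    have h1 := hc (DihedralGroup.r 1)
    rw [DihedralGroup.r_mul_sr, DihedralGroup.sr_mul_r] at h1
    have h2 := DihedralGroup.sr.inj h1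
    have h3 : ((2 : ℕ) : ZMod (2 ^ k)) = 0 := by
      have : i + 1 - (i - 1) = 0 := by rw [h2, sub_self]
      rw [← this]
      push_cast
      ring
    rw [ZMod.natCast_eq_zero_iff] at h3
    have h4 := Nat.le_of_dvd (by norm_num) h3
    have h5 : 2 ^ 2 ≤ 2 ^ k := Nat.pow_le_pow_right (by norm_num) hk
    omega

variable {T : Type*} [Group T]

/-- Two commuting involutions. -/
theorem dihedral_pair {k : ℕ} (hk : 1 ≤ k) (E : T ≃* DihedralGroup (2 ^ k)) :
    ∃ a b : T, orderOf a = 2 ∧ orderOf b = 2 ∧ a * b = b * a ∧ b ∉ zpowers a := by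
  refine ⟨E.symm (DihedralGroup.r ((2 ^ (k - 1) : ℕ) : ZMod (2 ^ k))), E.symm (DihedralGroup.sr 0), ?_, ?_, ?_, ?_⟩
  · rw [MulEquiv.orderOf_eq, orderOf_half hk]
  · rw [MulEquiv.orderOf_eq, DihedralGroup.orderOf_sr]
  · rw [← map_mul, half_central hk, map_mul]
  · intro h
    obtain ⟨j, hj⟩ := mem_zpowers_iff.1 h
    rw [← map_zpow] at hj
    have h1 := E.symm.injective hj
    rw [← zpow_mod_orderOf, orderOf_half hk] at h1
    rcases Int.emod_two_eq_zero_or_one j with h2 | h2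
    · rw [show (((2 : ℕ) : ℤ)) = 2 from rfl, h2, zpow_zero, DihedralGroup.one_def] at h1
      cases h1
    · rw [show (((2 : ℕ) : ℤ)) = 2 from rfl, h2, zpow_one] at h1
      cases h1

end Dih

section Fix

variable {X : Type*} [Group X] [Finite X]

/-- An element of prime order `t ≥ 5` normalising a dihedral 2-group commutes with an involution of it. -/
theorem fix_invol {T : Subgroup X} {k : ℕ} (hk : 1 ≤ k) (E : ↥T ≃* DihedralGroup (2 ^ k)) {t : ℕ} (ht : t.Prime)
    (h5 : 5 ≤ t) {y : X} (hy : orderOf y = t) (hn : ∀ x ∈ T, y * x * y⁻¹ ∈ T) (hn' : ∀ x ∈ T, y⁻¹ * x * y ∈ T) :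
    ∃ z ∈ T, orderOf z = 2 ∧ y * z = z * y := by
  classical
  let A : Set X := {z | z ∈ T ∧ orderOf z = 2 ∧ ∀ w ∈ T, z * w = w * z}
  have hA : ∀ z ∈ A, y * z * y⁻¹ ∈ A := by
    rintro z ⟨h1, h2, h3⟩
    refine ⟨hn z h1, ?_, ?_⟩
    · rw [← h2]
      exact orderOf_injective (MulAut.conj y).toMonoidHom (MulAut.conj y).injective z
    · intro w hw
      have h4 := h3 _ (hn' w hw)
      calc y * z * y⁻¹ * w = y * (z * (y⁻¹ * w * y)) * y⁻¹ := by group
        _ = y * ((y⁻¹ * w * y) * z) * y⁻¹ := by rw [h4]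
        _ = w * (y * z * y⁻¹) := by group
  have hA' : ∀ z ∈ A, y⁻¹ * z * y ∈ A := by
    rintro z ⟨h1, h2, h3⟩
    refine ⟨hn' z h1, ?_, ?_⟩
    · rw [← h2]
      have := orderOf_injective (MulAut.conj y⁻¹).toMonoidHom (MulAut.conj y⁻¹).injective z
      simpa only [_root_.map_inv, _root_.MulEquiv.toMonoidHom_eq_coe, _root_.MonoidHom.coe_coe, _root_.MulAut.inv_apply, _root_.MulAut.conj_symm_apply] using this
    · intro w hw
      have h4 := h3 _ (hn w hw)
      calc y⁻¹ * z * y * w = y⁻¹ * (z * (y * w * y⁻¹)) * y := by group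
        _ = y⁻¹ * ((y * w * y⁻¹) * z) * y := by rw [h4]
        _ = w * (y⁻¹ * z * y) := by group
  let σ : Equiv.Perm A :=
    { toFun := fun z => ⟨y * z * y⁻¹, hA _ z.2⟩
      invFun := fun z => ⟨y⁻¹ * z * y, hA' _ z.2⟩
      left_inv := fun z => Subtype.ext (by simp [mul_assoc])
      right_inv := fun z => Subtype.ext (by simp [mul_assoc]) }
  have hσ : ∀ n : ℕ, ∀ z : A, (((σ ^ n) z : A) : X) = y ^ n * z * (y ^ n)⁻¹ := by
    intro n
    induction n with
    | zero => intro z; simp only [_root_.pow_zero, _root_.Equiv.Perm.coe_one, _root_.id_eq, _root_.one_mul, _root_.inv_one, _root_.mul_one]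
    | succ n ih =>
      intro z
      rw [pow_succ, Equiv.Perm.mul_apply, ih]
      show y ^ n * (y * z * y⁻¹) * (y ^ n)⁻¹ = _
      rw [pow_succ]
      group
  have hfin : Finite A := inferInstance
  have hcard : Nat.card A ≤ 3 := by
    rcases Nat.lt_or_ge k 2 with h2 | h2
    · obtain rfl : k = 1 := by omega
      have hT : Nat.card ↥T = 4 := by
        rw [Nat.card_congr E.toEquiv, Nat.card_eq_fintype_card, DihedralGroup.card]
        norm_num
      have h1 : Nat.card (A ∪ {1} : Set X) ≤ Nat.card ↥T := by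
        apply Nat.card_mono (Set.toFinite _)
        rintro z (h | h)
        · exact h.1
        · rw [Set.mem_singleton_iff] at h
          rw [h]; exact one_mem T
      have h3 : Disjoint A {1} := by
        rw [Set.disjoint_singleton_right]
        rintro ⟨-, h4, -⟩
        rw [orderOf_one] at h4
        omega
      have h4 : Nat.card (A ∪ {1} : Set X) = Nat.card A + 1 := by
        rw [Nat.card_coe_set_eq, Set.ncard_union_eq h3 (Set.toFinite _) (Set.toFinite _), Set.ncard_singleton,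
          Nat.card_coe_set_eq]
      omega
    · have : Subsingleton A := by
        constructor
        rintro ⟨z, hz⟩ ⟨w, hw⟩
        have key : ∀ v : X, ∀ hv : v ∈ A, E ⟨v, hv.1⟩ = DihedralGroup.r ((2 ^ (k - 1) : ℕ) : ZMod (2 ^ k)) := by
          intro v hv
          apply central_unique h2
          · intro h6
            have h7 := E.map_eq_one_iff.1 h6
            have h8 : v = 1 := congrArg Subtype.val h7
            have h9 := hv.2.1
            rw [h8, orderOf_one] at h9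
            omega
          · intro d
            have h6 := hv.2.2 _ (E.symm d).2
            have h7 : (⟨v, hv.1⟩ : ↥T) * E.symm d = E.symm d * ⟨v, hv.1⟩ := Subtype.ext h6
            have h8 := congrArg E h7
            rwa [map_mul, map_mul, MulEquiv.apply_symm_apply] at h8
        have h6 := (key z hz).trans (key w hw).symm
        have h7 := congrArg Subtype.val (E.injective h6)
        exact Subtype.ext h7
      have h3 : Nat.card A ≤ 1 := Finite.card_le_one_iff_subsingleton.2 this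
      omega
  -- the involution
  obtain ⟨z₀, hz₀⟩ : A.Nonempty := by
    refine ⟨((E.symm (DihedralGroup.r ((2 ^ (k - 1) : ℕ) : ZMod (2 ^ k))) : ↥T) : X), Subtype.mem _, ?_, ?_⟩
    · rw [Subgroup.orderOf_coe, MulEquiv.orderOf_eq, orderOf_half hk]
    · intro w hw
      have h6 := half_central hk (E ⟨w, hw⟩)
      have h7 := congrArg E.symm h6
      rw [map_mul, map_mul, MulEquiv.symm_apply_apply] at h7
      exact congrArg Subtype.val h7
  have hσ1 : σ ^ t = 1 := by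
    apply Equiv.ext
    intro z
    apply Subtype.ext
    rw [hσ, ← hy, pow_orderOf_eq_one]
    simp only [_root_.one_mul, _root_.inv_one, _root_.mul_one, _root_.Equiv.Perm.coe_one, _root_.id_eq]
  have h6 : orderOf σ ∣ t := orderOf_dvd_of_pow_eq_one hσ1
  have h7 : orderOf σ ∣ (Nat.card A).factorial := by
    rw [← Nat.card_perm]
    exact _root_.orderOf_dvd_natCard σ
  have h8 : σ = 1 := by
    rw [← orderOf_eq_one_iff]
    rcases (Nat.dvd_prime ht).1 h6 with h9 | h9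
    · exact h9
    · exfalso
      rw [h9] at h7
      have := (ht.dvd_factorial).1 h7
      omega
  refine ⟨z₀, hz₀.1, hz₀.2.1, ?_⟩
  have h9 := congrArg (fun f : Equiv.Perm A => ((f ⟨z₀, hz₀⟩ : A) : X)) h8
  have h10 : y * z₀ * y⁻¹ = z₀ := h9
  calc y * z₀ = y * z₀ * y⁻¹ * y := by group
    _ = z₀ * y := by rw [h10]

open scoped MatrixGroups in
/-- A Sylow 2-subgroup which is dihedral. -/
theorem exists_sylow {S : Type*} [Group S] [Finite S] {F : Type*} [Field F] [Fintype F] (hF : Odd (Fintype.card F))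
    (E : S ≃* Matrix.ProjectiveSpecialLinearGroup (Fin 2) F) :
    ∃ (P : Sylow 2 S) (k : ℕ), 1 ≤ k ∧ Nonempty (↥(P : Subgroup S) ≃* DihedralGroup (2 ^ k)) := by
  have : Fact (Nat.Prime 2) := ⟨Nat.prime_two⟩
  have : Finite (Matrix.ProjectiveSpecialLinearGroup (Fin 2) F) := Finite.of_equiv S E.toEquiv
  obtain ⟨Q⟩ : Nonempty (Sylow 2 (Matrix.ProjectiveSpecialLinearGroup (Fin 2) F)) := inferInstance
  obtain ⟨k, hk, ⟨i⟩⟩ := Cfsg.Agent.H991.psl2_dihedral hF Q
  refine ⟨Q.mapSurjective (f := E.symm.toMonoidHom) E.symm.surjective, k, hk, ⟨?_⟩⟩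
  have e1 := (Q : Subgroup (Matrix.ProjectiveSpecialLinearGroup (Fin 2) F)).equivMapOfInjective E.symm.toMonoidHom
    E.symm.injective
  exact e1.symm.trans i

/-- A normal subgroup `PSL_2(u)`, `u` odd, and a prime `t ≥ 5` dividing its index. -/
theorem index_adj (S : Subgroup X) [S.Normal] {F : Type*} [Field F] [Fintype F] (hF : Odd (Fintype.card F))
    (E : ↥S ≃* Matrix.ProjectiveSpecialLinearGroup (Fin 2) F) {t : ℕ} (ht : t.Prime) (h5 : 5 ≤ t)
    (hd : t ∣ S.index) : ∃ x : X, orderOf x = 2 * t := by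
  have : Fact (Nat.Prime 2) := ⟨Nat.prime_two⟩
  have : Fact t.Prime := ⟨ht⟩
  obtain ⟨P, k, hk, ⟨i⟩⟩ := exists_sylow hF E
  set T : Subgroup X := (P : Subgroup ↥S).map S.subtype with hT
  have h1 : normalizer (T : Set X) ⊔ S = ⊤ := Sylow.normalizer_sup_eq_top P
  let f : ↥(normalizer (T : Set X)) →* X ⧸ S := (QuotientGroup.mk' S).comp (normalizer (T : Set X)).subtype
  have hf : Function.Surjective f := by
    intro x
    obtain ⟨g, rfl⟩ := QuotientGroup.mk_surjective x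
    have hg : g ∈ normalizer (T : Set X) ⊔ S := by rw [h1]; exact mem_top g
    obtain ⟨a, ha, b, hb, hab⟩ := Subgroup.mem_sup_of_normal_right.1 hg
    refine ⟨⟨a, ha⟩, ?_⟩
    show QuotientGroup.mk a = QuotientGroup.mk g
    rw [QuotientGroup.eq, ← hab]
    simpa using hb
  have h2 : t ∣ Nat.card ↥(normalizer (T : Set X)) := by
    refine dvd_trans ?_ (Subgroup.card_dvd_of_surjective f hf)
    exact hd
  obtain ⟨y, hy⟩ := exists_prime_orderOf_dvd_card' t h2
  have hy' : orderOf (y : X) = t := by rw [Subgroup.orderOf_coe, hy]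
  obtain ⟨z, hz, hz2, hzy⟩ := fix_invol hk
    (((P : Subgroup ↥S).equivMapOfInjective S.subtype S.subtype_injective).symm.trans i) ht h5 hy'
    (fun x hx => (mem_normalizer_iff.1 y.2 x).1 hx)
    (fun x hx => by
      have h6 := (mem_normalizer_iff.1 (inv_mem y.2) x).1 hx
      rwa [inv_inv] at h6)
  refine ⟨z * y, ?_⟩
  have h3 : Commute z (y : X) := hzy.symm
  rw [h3.orderOf_mul_eq_mul_orderOf_of_coprime, hz2, hy']
  rw [hz2, hy', Nat.coprime_comm, Nat.coprime_two_right]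
  exact ht.odd_of_ne_two (by omega)

end Fix

variable {G : Type*} [Group G] [Finite G]

/-- **The clause of `PSL_2(u)`, `u` odd.** -/
theorem l2_clause (K : Subgroup G) [K.Normal] (S : Subgroup (G ⧸ K)) [S.Normal] {F : Type*} [Field F] [Fintype F]
    (hF : Odd (Fintype.card F)) (E : ↥S ≃* Matrix.ProjectiveSpecialLinearGroup (Fin 2) F) (h2 : ¬ 2 ∣ Nat.card ↥K)
    {t : ℕ} (ht : t.Prime) (h5 : 5 ≤ t) (hd : t ∣ Nat.card ↥K * S.index) : ∃ x : G, orderOf x = 2 * t := by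
  rcases (ht.dvd_mul).1 hd with h1 | h1
  · obtain ⟨P, k, hk, ⟨i⟩⟩ := exists_sylow hF E
    obtain ⟨a, b, ha, hb, hab, hba⟩ := dihedral_pair hk i
    obtain ⟨x, hx⟩ := AltG.adj_cop K ht Nat.prime_two (by omega) h2 h1 (a := (((a : ↥(P : Subgroup ↥S)) : ↥S) : G ⧸ K))
      (b := (((b : ↥(P : Subgroup ↥S)) : ↥S) : G ⧸ K))
      (by rw [Subgroup.orderOf_coe, Subgroup.orderOf_coe, ha])
      (by rw [Subgroup.orderOf_coe, Subgroup.orderOf_coe, hb])
      (by rw [← Subgroup.coe_mul, ← Subgroup.coe_mul, hab, Subgroup.coe_mul, Subgroup.coe_mul]) (by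
        intro h
        obtain ⟨j, hj⟩ := mem_zpowers_iff.1 h
        apply hba
        refine mem_zpowers_iff.2 ⟨j, ?_⟩
        apply Subtype.ext
        apply Subtype.ext
        rw [← hj, Subgroup.coe_zpow, Subgroup.coe_zpow])
    exact ⟨x, by rw [hx, mul_comm]⟩
  · obtain ⟨x, hx⟩ := index_adj S hF E ht h5 h1
    obtain ⟨g, rfl⟩ := QuotientGroup.mk_surjective x
    have h3 : 2 * t ∣ orderOf g := by
      rw [← hx]
      exact orderOf_map_dvd (QuotientGroup.mk' K) g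
    refine ⟨g ^ (orderOf g / (2 * t)), ?_⟩
    have h4 : 0 < orderOf g := orderOf_pos g
    rw [orderOf_pow_of_dvd (Nat.div_pos (Nat.le_of_dvd h4 h3) (by have := ht.pos; omega)).ne'
      (Nat.div_dvd_of_dvd h3)]
    exact Nat.div_div_self h3 h4.ne'

end Cfsg.Agent.H402.Rec
end

-- part: H402/Rec/Fact
section
/-!
# From a group isospectral to `PSL_4(q)`, `PSU_4(q)` to its simple section

`Fact3 e k G` (`q = 3 ^ k`) and `Fact2 e k G` (`q = 2 ^ k`, `k ≥ 2`) collect the facts on the spectrum of `G`.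
`Fact3.cand`, `Fact2.cand`: the simple section satisfies `Cand3`, `Cand2`.
-/

set_option autoImplicit false

namespace Cfsg.Agent.H402.Rec

open Subgroup

/-- Facts on the element orders of `PSL_4(3 ^ k)` (`e = true`), `PSU_4(3 ^ k)` (`e = false`). -/
structure Fact3 (e : Bool) (k : ℕ) (G : Type*) [Group G] : Prop where
  hk : 1 ≤ k
  hk2 : e = false → 2 ≤ k
  spec : ∀ x : G, orderOf x ∣ N3 e (3 ^ k) ∨ orderOf x ∣ N4 e (3 ^ k) ∨ orderOf x ∣ 3 * ((3 ^ k) ^ 2 - 1) ∨
    orderOf x = 9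
  ex9 : ∃ x : G, orderOf x = 9
  ex3 : ∃ x : G, orderOf x = R3 e (3 ^ k)
  ex4 : ∃ x : G, orderOf x = R4 (3 ^ k)

/-- Facts on the element orders of `PSL_4(2 ^ k)` (`e = true`), `PSU_4(2 ^ k)` (`e = false`), `k ≥ 2`. -/
structure Fact2 (e : Bool) (k : ℕ) (G : Type*) [Group G] : Prop where
  hk : 2 ≤ k
  spec : ∀ x : G, orderOf x ∣ M3 e (2 ^ k) ∨ orderOf x ∣ M4 e (2 ^ k) ∨ orderOf x ∣ 2 * ((2 ^ k) ^ 2 - 1) ∨
    orderOf x ∣ 4 * M1 e (2 ^ k)
  ex3 : ∃ x : G, orderOf x = Q3 e (2 ^ k)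
  ex4 : ∃ x : G, orderOf x = (2 ^ k) ^ 2 + 1

theorem Fact3.of_range {e : Bool} {k : ℕ} {G L : Type*} [Group G] [Group L] (h : Fact3 e k L)
    (hr : Set.range (orderOf : G → ℕ) = Set.range (orderOf : L → ℕ)) : Fact3 e k G := by
  have h1 : ∀ n : ℕ, (∃ x : L, orderOf x = n) → ∃ x : G, orderOf x = n := by
    intro n hn
    have : n ∈ Set.range (orderOf : L → ℕ) := hn
    rw [← hr] at this
    exact this
  refine ⟨h.hk, h.hk2, fun x => ?_, h1 _ h.ex9, h1 _ h.ex3, h1 _ h.ex4⟩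
  have h2 : orderOf x ∈ Set.range (orderOf : L → ℕ) := by rw [← hr]; exact ⟨x, rfl⟩
  obtain ⟨y, hy⟩ := h2
  rw [← hy]
  exact h.spec y

theorem Fact2.of_range {e : Bool} {k : ℕ} {G L : Type*} [Group G] [Group L] (h : Fact2 e k L)
    (hr : Set.range (orderOf : G → ℕ) = Set.range (orderOf : L → ℕ)) : Fact2 e k G := by
  have h1 : ∀ n : ℕ, (∃ x : L, orderOf x = n) → ∃ x : G, orderOf x = n := by
    intro n hn
    have : n ∈ Set.range (orderOf : L → ℕ) := hn
    rw [← hr] at this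
    exact this
  refine ⟨h.hk, fun x => ?_, h1 _ h.ex3, h1 _ h.ex4⟩
  have h2 : orderOf x ∈ Set.range (orderOf : L → ℕ) := by rw [← hr]; exact ⟨x, rfl⟩
  obtain ⟨y, hy⟩ := h2
  rw [← hy]
  exact h.spec y

theorem Fact3.toCand {e : Bool} {k : ℕ} {G : Type*} [Group G] (h : Fact3 e k G) : Cand3 e k G :=
  ⟨h.hk, h.hk2, h.spec, Or.inl ⟨h.ex3, h.ex4⟩⟩

theorem Fact2.toCand {e : Bool} {k : ℕ} {G : Type*} [Group G] (h : Fact2 e k G) : Cand2 e k G :=
  ⟨h.hk, h.spec, h.ex3, h.ex4⟩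

section Sect

variable {G : Type*} [Group G] [Finite G]

/-- The coclique clause of Vasil'ev's theorem. -/
def Clause (K : Subgroup G) [K.Normal] (S : Subgroup (G ⧸ K)) : Prop :=
  ∀ ρ : Finset ℕ, ((∀ r ∈ ρ, r.Prime ∧ r ∣ Nat.card G) ∧
    (∀ r ∈ ρ, ∀ s ∈ ρ, r ≠ s → ¬ ∃ x : G, orderOf x = r * s)) → 3 ≤ ρ.card → ∀ p ∈ ρ, ∀ q ∈ ρ,
    p ∣ Nat.card ↥K * S.index → q ∣ Nat.card ↥K * S.index → p = q

/-- Three pairwise non-adjacent primes. -/
theorem Clause.three {K : Subgroup G} [K.Normal] {S : Subgroup (G ⧸ K)} (hc : Clause K S) {a b c : ℕ} (ha : a.Prime)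
    (hb : b.Prime) (hc' : c.Prime) (hab : a ≠ b) (hac : a ≠ c) (hbc : b ≠ c) (ha1 : a ∣ Nat.card G)
    (hb1 : b ∣ Nat.card G) (hc1 : c ∣ Nat.card G) (nab : ∀ x : G, orderOf x ≠ a * b) (nac : ∀ x : G, orderOf x ≠ a * c)
    (nbc : ∀ x : G, orderOf x ≠ b * c) {p q : ℕ} (hp : p = a ∨ p = b ∨ p = c) (hq : q = a ∨ q = b ∨ q = c)
    (hp1 : p ∣ Nat.card ↥K * S.index) (hq1 : q ∣ Nat.card ↥K * S.index) : p = q := by
  classical
  refine hc {a, b, c} ⟨?_, ?_⟩ ?_ p ?_ q ?_ hp1 hq1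
  · intro r hr
    simp only [Finset.mem_insert, Finset.mem_singleton] at hr
    rcases hr with rfl | rfl | rfl
    · exact ⟨ha, ha1⟩
    · exact ⟨hb, hb1⟩
    · exact ⟨hc', hc1⟩
  · intro r hr s hs hrs
    simp only [Finset.mem_insert, Finset.mem_singleton] at hr hs
    rintro ⟨x, hx⟩
    rcases hr with rfl | rfl | rfl <;> rcases hs with rfl | rfl | rfl
    · exact hrs rfl
    · exact nab x hx
    · exact nac x hx
    · exact nab x (by rw [hx, mul_comm])
    · exact hrs rfl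
    · exact nbc x hx
    · exact nac x (by rw [hx, mul_comm])
    · exact nbc x (by rw [hx, mul_comm])
    · exact hrs rfl
  · rw [Finset.card_insert_of_notMem (by simp [hab, hac]), Finset.card_insert_of_notMem (by simp [hbc]),
      Finset.card_singleton]
  · simpa using hp
  · simpa using hq

/-- An element of order prime to `|K| |G / K : S|` gives an element of the same order in `S`. -/
theorem exists_section (K : Subgroup G) [K.Normal] (S : Subgroup (G ⧸ K)) [S.Normal] {g : G}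
    (h : ∀ r : ℕ, r.Prime → r ∣ orderOf g → ¬ r ∣ Nat.card ↥K * S.index) : ∃ x : ↥S, orderOf x = orderOf g := by
  have hcop : (orderOf g).Coprime (Nat.card ↥K * S.index) := by
    apply Nat.coprime_of_dvd
    intro r hr h1 h2
    exact h r hr h1 h2
  have h1 := order_mk' K g (Nat.Coprime.coprime_mul_right_right hcop)
  have h2 : (QuotientGroup.mk g : G ⧸ K) ∈ S := by
    have h3 : (QuotientGroup.mk g : G ⧸ K) ^ S.index ∈ S := by
      rw [← QuotientGroup.eq_one_iff (N := S)]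
      rw [QuotientGroup.mk_pow]
      exact pow_card_eq_one'
    have h4 : (orderOf (QuotientGroup.mk g : G ⧸ K)).Coprime S.index := by
      rw [h1]; exact Nat.Coprime.coprime_mul_left_right hcop
    obtain ⟨m, hm⟩ := exists_pow_eq_self_of_coprime h4.symm
    rw [← hm]
    exact pow_mem h3 m
  exact ⟨⟨_, h2⟩, by rw [Subgroup.orderOf_mk, h1]⟩
where
  order_mk' (K : Subgroup G) [K.Normal] (g : G) (h : (orderOf g).Coprime (Nat.card ↥K)) :
      orderOf (QuotientGroup.mk g : G ⧸ K) = orderOf g := Cfsg.Agent.H402.AltG.order_mk K g h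

/-- Element orders of `S` divide element orders of `G`. -/
theorem exists_lift_order (K : Subgroup G) [K.Normal] (S : Subgroup (G ⧸ K)) (x : ↥S) :
    ∃ g : G, orderOf g = orderOf x := by
  obtain ⟨g, hg⟩ := QuotientGroup.mk_surjective (x : G ⧸ K)
  have h3 : orderOf x ∣ orderOf g := by
    rw [← Subgroup.orderOf_coe, ← hg]
    exact orderOf_map_dvd (QuotientGroup.mk' K) g
  have h4 : 0 < orderOf g := orderOf_pos g
  have h5 : 0 < orderOf x := orderOf_pos x
  refine ⟨g ^ (orderOf g / orderOf x), ?_⟩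
  rw [orderOf_pow_of_dvd (Nat.div_pos (Nat.le_of_dvd h4 h3) h5).ne' (Nat.div_dvd_of_dvd h3)]
  exact Nat.div_div_self h3 h4.ne'

variable {e : Bool} {k : ℕ}

/-- **The section for `q = 3 ^ k`.** -/
theorem Fact3.cand (h : Fact3 e k G) {K : Subgroup G} [K.Normal] {S : Subgroup (G ⧸ K)} [S.Normal] (hc : Clause K S) :
    Cand3 e k ↥S := by
  have h' := h.toCand
  have hdvd : ∀ n : ℕ, (∃ x : G, orderOf x = n) → n ∣ Nat.card G := by
    rintro n ⟨x, rfl⟩
    exact _root_.orderOf_dvd_natCard x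
  have hc3 := hdvd _ h.ex3
  have hc4 := hdvd _ h.ex4
  have hc9 : 3 ∣ Nat.card G := (show 3 ∣ 9 by decide).trans (hdvd _ h.ex9)
  have n3 : ∀ r : ℕ, r.Prime → r ∣ R3 e (3 ^ k) → ∀ x : G, orderOf x ≠ 3 * r := by
    intro r hr hrd x hx
    have h1 := h'.absA hr hrd (x := x) (by rw [hx]; exact dvd_mul_left _ _)
    exact h'.three_N3 (((dvd_mul_right 3 r).trans (dvd_of_eq hx.symm)).trans h1)
  have n4 : ∀ r : ℕ, r.Prime → r ∣ R4 (3 ^ k) → ∀ x : G, orderOf x ≠ 3 * r := by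
    intro r hr hrd x hx
    have h1 := h'.absB hr hrd (x := x) (by rw [hx]; exact dvd_mul_left _ _)
    exact h'.three_N4 (((dvd_mul_right 3 r).trans (dvd_of_eq hx.symm)).trans h1)
  have hn : ∀ s : ℕ, s.Prime → s ∣ R4 (3 ^ k) → ¬ s ∣ N3 e (3 ^ k) := by
    intro s hs hsd h5
    have h6 := h5.trans (N3_dvd e h'.one_le)
    obtain ⟨-, h7, h8⟩ := of_dvd_R4 h'.one_le h'.odd hs hsd
    cases e
    · exact h8 h6
    · exact h7 h6
  have n34 : ∀ r s : ℕ, r.Prime → s.Prime → r ∣ R3 e (3 ^ k) → s ∣ R4 (3 ^ k) → ∀ x : G, orderOf x ≠ r * s := by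
    intro r s hr hs hrd hsd x hx
    have h5 := h'.absA hr hrd (x := x) (by rw [hx]; exact dvd_mul_right _ _)
    exact hn s hs hsd (((dvd_mul_left s r).trans (dvd_of_eq hx.symm)).trans h5)
  have hne : ∀ r s : ℕ, s.Prime → r ∣ R3 e (3 ^ k) → s ∣ R4 (3 ^ k) → r ≠ s := by
    rintro r s hs hrd hsd rfl
    exact hn r hs hsd (hrd.trans (R3_dvd_N3 e h'.one_le h'.odd))
  have main : ∀ r s p q : ℕ, r.Prime → s.Prime → r ∣ R3 e (3 ^ k) → s ∣ R4 (3 ^ k) → (p = 3 ∨ p = r ∨ p = s) →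
      (q = 3 ∨ q = r ∨ q = s) → p ∣ Nat.card ↥K * S.index → q ∣ Nat.card ↥K * S.index → p = q := by
    intro r s p q hr hs hrd hsd hp hq hp1 hq1
    have hr5 := h'.five_le hr (Or.inl hrd)
    have hs5 := h'.five_le hs (Or.inr hsd)
    exact hc.three Nat.prime_three hr hs (by omega) (by omega) (hne r s hs hrd hsd) hc9 (hrd.trans hc3)
      (hsd.trans hc4) (n3 r hr hrd) (n4 s hs hsd) (n34 r s hr hs hrd hsd) hp hq hp1 hq1
  obtain ⟨r₀, hr₀, hrd₀⟩ := Nat.exists_prime_and_dvd h'.one_lt_R3.ne'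
  obtain ⟨s₀, hs₀, hsd₀⟩ := Nat.exists_prime_and_dvd h'.one_lt_R4.ne'
  have get : ∀ n : ℕ, (∃ x : G, orderOf x = n) → (∀ r : ℕ, r.Prime → r ∣ n → ¬ r ∣ Nat.card ↥K * S.index) →
      ∃ x : ↥S, orderOf x = n := by
    rintro n ⟨x, rfl⟩ h1
    exact exists_section K S h1
  have h9 : ¬ 3 ∣ Nat.card ↥K * S.index → ∃ x : ↥S, orderOf x = 9 := by
    intro h3
    refine get 9 h.ex9 ?_
    intro r hr hr9
    have : r ∣ 3 ^ 2 := by simpa using hr9
    rwa [(Nat.prime_dvd_prime_iff_eq hr Nat.prime_three).1 (hr.dvd_of_dvd_pow this)]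
  refine ⟨h.hk, h.hk2, ?_, ?_⟩
  · intro x
    obtain ⟨g, hg⟩ := exists_lift_order K S x
    rw [← hg]
    exact h.spec g
  · by_cases hb3 : ∃ r : ℕ, r.Prime ∧ r ∣ R3 e (3 ^ k) ∧ r ∣ Nat.card ↥K * S.index
    · obtain ⟨r, hr, hrd, hrb⟩ := hb3
      have hr5 := h'.five_le hr (Or.inl hrd)
      right
      refine ⟨h9 ?_, Or.inr (get _ h.ex4 ?_)⟩
      · intro h3
        have := main r s₀ 3 r hr hs₀ hrd hsd₀ (Or.inl rfl) (Or.inr (Or.inl rfl)) h3 hrb
        omega
      · intro s hs hsd hsb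
        exact hne r s hs hrd hsd (main r s r s hr hs hrd hsd (Or.inr (Or.inl rfl)) (Or.inr (Or.inr rfl)) hrb hsb)
    · push Not at hb3
      by_cases hb4 : ∃ s : ℕ, s.Prime ∧ s ∣ R4 (3 ^ k) ∧ s ∣ Nat.card ↥K * S.index
      · obtain ⟨s, hs, hsd, hsb⟩ := hb4
        have hs5 := h'.five_le hs (Or.inr hsd)
        right
        refine ⟨h9 ?_, Or.inl (get _ h.ex3 fun r hr hrd => hb3 r hr hrd)⟩
        intro h3
        have := main r₀ s 3 s hr₀ hs hrd₀ hsd (Or.inl rfl) (Or.inr (Or.inr rfl)) h3 hsb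
        omega
      · push Not at hb4
        exact Or.inl ⟨get _ h.ex3 fun r hr hrd => hb3 r hr hrd, get _ h.ex4 fun r hr hrd => hb4 r hr hrd⟩

/-- **The section for `q = 2 ^ k`.** -/
theorem Fact2.cand (h : Fact2 e k G) {K : Subgroup G} [K.Normal] {S : Subgroup (G ⧸ K)} [S.Normal] (hc : Clause K S)
    (h2 : (∃ (F : Type) (_ : Field F) (_ : Fintype F), Odd (Fintype.card F) ∧
      Nonempty (↥S ≃* Matrix.ProjectiveSpecialLinearGroup (Fin 2) F)) ∨
      ∀ p : ℕ, p.Prime → p ≠ 2 → p ∣ Nat.card G → (¬ ∃ x : G, orderOf x = 2 * p) →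
        ¬ p ∣ Nat.card ↥K ∧ ¬ p ∣ S.index) : Cand2 e k ↥S := by
  have h' := h.toCand
  have hdvd : ∀ n : ℕ, (∃ x : G, orderOf x = n) → n ∣ Nat.card G := by
    rintro n ⟨x, rfl⟩
    exact _root_.orderOf_dvd_natCard x
  have hc3 := hdvd _ h.ex3
  have hc4 := hdvd _ h.ex4
  have hn2 : ∀ r : ℕ, r.Prime → (r ∣ Q3 e (2 ^ k) ∨ r ∣ (2 ^ k) ^ 2 + 1) → ∀ x : G, orderOf x ≠ 2 * r := by
    rintro r hr (hrd | hrd) x hx
    · have := h'.not_even3 hr hrd (x := x) (by rw [hx]; exact dvd_mul_left _ _)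
      omega
    · have := h'.not_even4 hr hrd (x := x) (by rw [hx]; exact dvd_mul_left _ _)
      omega
  have hr5 : ∀ r : ℕ, r.Prime → (r ∣ Q3 e (2 ^ k) ∨ r ∣ (2 ^ k) ^ 2 + 1) → 5 ≤ r := by
    intro r hr hrd
    have h1 : r ≠ 2 ∧ r ≠ 3 := by
      rcases hrd with hrd | hrd
      · exact (of_dvd_Q3 h'.one_le hr hrd).2.2.2
      · exact (of_dvd_Q4 (e := e) h'.one_le h'.even hr hrd).2.2.2
    have h4 : r ≠ 4 := by
      rintro rfl
      exact absurd hr (by decide)
    have := hr.two_le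
    omega
  -- no such prime is bad
  have good : ∀ r : ℕ, r.Prime → (r ∣ Q3 e (2 ^ k) ∨ r ∣ (2 ^ k) ^ 2 + 1) → ¬ r ∣ Nat.card ↥K * S.index := by
    intro r hr hrd hb
    have h5 := hr5 r hr hrd
    have hrG : r ∣ Nat.card G := by
      rcases hrd with hrd | hrd
      · exact hrd.trans hc3
      · exact hrd.trans hc4
    rcases h2 with ⟨F, iF, iF', hF, ⟨E⟩⟩ | h2
    · by_cases h2b : 2 ∣ Nat.card ↥K * S.index
      · obtain ⟨r₀, s₀, hr₀, hs₀, hrd₀, hsd₀⟩ := h'.exists_primes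
        have h2G : 2 ∣ Nat.card G := by
          have h3 : Nat.card ↥S ∣ Nat.card G :=
            (Subgroup.card_subgroup_dvd_card S).trans (Subgroup.card_quotient_dvd_card K)
          refine dvd_trans ?_ h3
          obtain ⟨P, j, hj, ⟨i⟩⟩ := exists_sylow hF E
          obtain ⟨a, -, ha, -⟩ := dihedral_pair hj i
          rw [← ha]
          exact (_root_.orderOf_dvd_natCard a).trans (Subgroup.card_subgroup_dvd_card _)
        have hfin : ∀ r s : ℕ, r.Prime → s.Prime → r ∣ Q3 e (2 ^ k) → s ∣ (2 ^ k) ^ 2 + 1 →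
            ∀ q : ℕ, (q = r ∨ q = s) → q ∣ Nat.card ↥K * S.index → False := by
          intro r s hr hs hrd hsd q hq hqb
          have h6 := hr5 r hr (Or.inl hrd)
          have h7 := hr5 s hs (Or.inr hsd)
          have hrs : r ≠ s := by
            rintro rfl
            obtain ⟨x, hx⟩ := h.ex3
            exact h'.not_both hr hr hrd hsd (x := x) (by rw [hx]; exact hrd) (by rw [hx]; exact hrd)
          have h8 := hc.three Nat.prime_two hr hs (by omega) (by omega) hrs h2G (hrd.trans hc3) (hsd.trans hc4)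
            (hn2 r hr (Or.inl hrd)) (hn2 s hs (Or.inr hsd))
            (fun x hx => h'.not_both hr hs hrd hsd (x := x) (by rw [hx]; exact dvd_mul_right _ _)
              (by rw [hx]; exact dvd_mul_left _ _))
            (p := 2) (q := q) (Or.inl rfl) (Or.inr hq) h2b hqb
          rcases hq with hq | hq <;> omega
        rcases hrd with hrd | hrd
        · exact hfin r s₀ hr hs₀ hrd hsd₀ r (Or.inl rfl) hb
        · exact hfin r₀ r hr₀ hr hrd₀ hrd r (Or.inr rfl) hb
      · obtain ⟨x, hx⟩ := l2_clause K S hF E (fun h3 => h2b (h3.mul_right _)) hr h5 hb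
        exact hn2 r hr hrd x hx
    · obtain ⟨h3, h4⟩ := h2 r hr (by omega) hrG (by
        rintro ⟨x, hx⟩
        exact hn2 r hr hrd x hx)
      rcases (hr.dvd_mul).1 hb with h6 | h6
      · exact h3 h6
      · exact h4 h6
  have get : ∀ n : ℕ, (∃ x : G, orderOf x = n) → (∀ r : ℕ, r.Prime → r ∣ n → ¬ r ∣ Nat.card ↥K * S.index) →
      ∃ x : ↥S, orderOf x = n := by
    rintro n ⟨x, rfl⟩ h1
    exact exists_section K S h1
  refine ⟨h.hk, ?_, get _ h.ex3 fun r hr hrd => good r hr (Or.inl hrd), get _ h.ex4 fun r hr hrd => good r hr (Or.inr hrd)⟩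
  intro x
  obtain ⟨g, hg⟩ := exists_lift_order K S x
  rw [← hg]
  exact h.spec g

/-- `3 ^ k` modulo 8 -/
theorem three_pow_mod (k : ℕ) : 3 ^ k % 8 = 1 ∨ 3 ^ k % 8 = 3 := by
  induction k with
  | zero => left; rfl
  | succ k ih =>
    rw [pow_succ]
    omega

/-- One of the numbers `N3`, `N4` is odd. -/
theorem odd_N (e : Bool) {q : ℕ} (hq : q % 8 = 1 ∨ q % 8 = 3) : N3 e q % 2 = 1 ∨ N4 e q % 2 = 1 := by
  have hq1 : 1 ≤ q := by omega
  have hodd : q % 2 = 1 := by omega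
  have h3 := dd_mul_N3 e hq1
  have h4 := dd_mul_N4 e hq1 hodd
  have hq2 : q ^ 2 % 8 = 1 := sq_mod_eight hodd
  have hq3 : q ^ 3 % 8 = q % 8 := by
    rw [pow_succ, Nat.mul_mod, hq2, one_mul, Nat.mod_mod]
  have g1 : q % 4 = 1 → Nat.gcd 4 (q - 1) = 4 ∧ Nat.gcd 4 (q + 1) = 2 := by
    intro h
    constructor
    · exact Nat.gcd_eq_left (by omega)
    · have h5 : (q + 1) % 4 = 2 := by (clear * - h; omega)
      rw [Nat.gcd_rec, h5]; rfl
  have g3 : q % 4 = 3 → Nat.gcd 4 (q - 1) = 2 ∧ Nat.gcd 4 (q + 1) = 4 := by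
    intro h
    constructor
    · have h5 : (q - 1) % 4 = 2 := by (clear * - h; omega)
      rw [Nat.gcd_rec, h5]; rfl
    · exact Nat.gcd_eq_left (by omega)
  obtain ⟨a, ha⟩ : ∃ a, q ^ 2 + 1 = 2 * (4 * a + 1) := ⟨(q ^ 2 + 1) / 8, by omega⟩
  rcases hq with hq | hq
  · obtain ⟨g4, g5⟩ := g1 (by (clear * - hq; omega))
    cases e
    · left
      have hd : dd false q = 2 := g5
      rw [hd] at h3
      simp only [Bool.false_eq_true, if_false] at h3
      (clear * - hq3 hq h3; omega)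
    · right
      have hd : dd true q = 4 := g4
      rw [hd] at h4
      simp only [if_true] at h4
      obtain ⟨b, hb⟩ : ∃ b, q + 1 = 2 * (4 * b + 1) := ⟨(q + 1) / 8, by (clear * - hq; omega)⟩
      rw [ha, hb] at h4
      have h5 : 2 * (4 * a + 1) * (2 * (4 * b + 1)) = 4 * (2 * (8 * (a * b) + 2 * a + 2 * b) + 1) := by ring
      rw [h5] at h4
      omega
  · obtain ⟨g4, g5⟩ := g3 (by (clear * - hq; omega))
    cases e
    · right
      have hd : dd false q = 4 := g5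
      rw [hd] at h4
      simp only [Bool.false_eq_true, if_false] at h4
      obtain ⟨b, hb⟩ : ∃ b, q - 1 = 2 * (4 * b + 1) := ⟨(q - 1) / 8, by (clear * - hq; omega)⟩
      rw [ha, hb] at h4
      have h5 : 2 * (4 * a + 1) * (2 * (4 * b + 1)) = 4 * (2 * (8 * (a * b) + 2 * a + 2 * b) + 1) := by ring
      rw [h5] at h4
      omega
    · left
      have hd : dd true q = 2 := g4
      rw [hd] at h3
      simp only [if_true] at h3
      (clear * - hq3 hq h3; omega)

/-- an odd prime not joined to 2 -/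
theorem Fact3.exists_far (h : Fact3 e k G) :
    ∃ p : ℕ, p.Prime ∧ p ≠ 2 ∧ p ∣ Nat.card G ∧ ¬ ∃ x : G, orderOf x = 2 * p := by
  have h' := h.toCand
  rcases odd_N e (three_pow_mod k) with hN | hN
  · obtain ⟨r, hr, hrd⟩ := Nat.exists_prime_and_dvd h'.one_lt_R3.ne'
    obtain ⟨x, hx⟩ := h.ex3
    have h5 := h'.five_le hr (Or.inl hrd)
    refine ⟨r, hr, by omega, hrd.trans (by rw [← hx]; exact _root_.orderOf_dvd_natCard x), ?_⟩
    rintro ⟨y, hy⟩
    have h1 := h'.absA hr hrd (x := y) (by rw [hy]; exact dvd_mul_left _ _)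
    have h2 : 2 ∣ N3 e (3 ^ k) := dvd_trans (by rw [hy]; exact dvd_mul_right _ _) h1
    omega
  · obtain ⟨r, hr, hrd⟩ := Nat.exists_prime_and_dvd h'.one_lt_R4.ne'
    obtain ⟨x, hx⟩ := h.ex4
    have h5 := h'.five_le hr (Or.inr hrd)
    refine ⟨r, hr, by omega, hrd.trans (by rw [← hx]; exact _root_.orderOf_dvd_natCard x), ?_⟩
    rintro ⟨y, hy⟩
    have h1 := h'.absB hr hrd (x := y) (by rw [hy]; exact dvd_mul_left _ _)
    have h2 : 2 ∣ N4 e (3 ^ k) := dvd_trans (by rw [hy]; exact dvd_mul_right _ _) h1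
    omega

/-- an odd prime not joined to 2 -/
theorem Fact2.exists_far (h : Fact2 e k G) :
    ∃ p : ℕ, p.Prime ∧ p ≠ 2 ∧ p ∣ Nat.card G ∧ ¬ ∃ x : G, orderOf x = 2 * p := by
  have h' := h.toCand
  obtain ⟨r, s, hr, hs, hrd, hsd⟩ := h'.exists_primes
  obtain ⟨x, hx⟩ := h.ex3
  refine ⟨r, hr, (of_dvd_Q3 h'.one_le hr hrd).2.2.2.1, hrd.trans (by rw [← hx]; exact _root_.orderOf_dvd_natCard x), ?_⟩
  rintro ⟨y, hy⟩
  have := h'.not_even3 hr hrd (x := y) (by rw [hy]; exact dvd_mul_left _ _)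
  omega

end Sect

end Cfsg.Agent.H402.Rec
end
end

-- part: H402/Rec/Spec
section
prune_inst 0x201044006c2200000000000042003c22b2000000000b0000300000000d8a1c408040062022000d00000480840830000013100000420000000a000000011c04810020040000010808800000002000000000000000000000000000000000041000200000000
set_option linter.all false
open scoped Cfsg.Agent.FastGrp

/-!
# The spectrum of `PSL_4(q)` and `PSU_4(q)` in characteristics two and three

`fact3 : Fact3 e k L`, `fact2 : Fact2 e k L` for `L = PSL_4(q)` (`e = true`), `PSU_4(q)` (`e = false`).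
-/

set_option autoImplicit false
set_option linter.unusedSectionVars false

namespace Cfsg.Agent.H402.Rec

open Polynomial Function Cfsg.Agent.H403 NumTop Cfsg.Agent.H363.L4 Cfsg.Agent.H363.L4 Cfsg.Agent.H402.Uni

section

variable {F : Type*} [Field F] [Fintype F] {E : Type*} [Field E] [IsAlgClosed E] [Algebra F E]
variable {e : Bool} {n q : ℕ} {L : Type*} [Group L]

/-- The torus of order `(x ^ n - 1) / (x - 1)`. -/
theorem per_top (hF : Fintype.card F = q ^ (cond e 0 1 + 1)) (hn : 2 ≤ n)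
    {g : L} {M : Matrix (Fin n) (Fin n) F} (hdet : M.det = 1) (hM : Cl (xv e q) (evs E M))
    (hMk : ∀ k : ℕ, g ^ k = 1 ↔ ∃ c : F, M ^ k = c • (1 : Matrix (Fin n) (Fin n) F)) {y : E} (hy : y ∈ evs E M)
    (hper : per (xv e q) y = n) : orderOf g * (AA e 1 q * Nat.gcd n (AA e 1 q)) ∣ AA e n q := by
  classical
  have hq : 2 ≤ q := two_le_of_card hF
  have hcard : Multiset.card (evs E M) = n := by rw [card_evs, Fintype.card_fin]
  have hR := eq_orb hM hy (by rw [hcard, hper])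
  have hy0 := hM.ne_zero hy
  have hprod : y ^ (∑ j ∈ Finset.range n, (xv e q) ^ j) = 1 := by
    rw [← hper, ← orb_prod _ _ hy0, ← hR, prod_evs, hdet, map_one]
  set d := Nat.gcd n (AA e 1 q) with hd
  have hd1 : (d : ℤ) ∣ xv e q - 1 := by
    have h1 : d ∣ AA e 1 q := Nat.gcd_dvd_right _ _
    rw [← AA_natAbs (by omega : 1 ≤ q), pow_one] at h1
    exact Int.natCast_dvd.2 h1
  have hdS : (d : ℤ) ∣ ∑ j ∈ Finset.range n, (xv e q) ^ j := by
    have h2 : (d : ℤ) ∣ ∑ j ∈ Finset.range n, ((xv e q) ^ j - 1) :=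
      Finset.dvd_sum fun j _ => hd1.trans (sub_one_dvd_pow_sub_one _ _)
    rw [Finset.sum_sub_distrib, Finset.sum_const, Finset.card_range, nsmul_eq_mul, mul_one] at h2
    have h3 : (d : ℤ) ∣ (n : ℤ) := by exact_mod_cast Nat.gcd_dvd_left _ _
    have := dvd_add h2 h3
    rwa [sub_add_cancel] at this
  obtain ⟨T, hT⟩ := hdS
  have hgeom : (∑ j ∈ Finset.range n, (xv e q) ^ j) * (xv e q - 1) = xv e q ^ n - 1 := geom_sum_mul _ _
  have habs := AA_natAbs (e := e) (i := n) (by omega : 1 ≤ q)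
  have hpos := AA_pos (e := e) (i := n) hq (by omega)
  have hT0 : T ≠ 0 := by
    rintro rfl
    rw [mul_zero] at hT
    rw [hT, zero_mul] at hgeom
    rw [← hgeom] at habs
    simp at habs
    omega
  have hz : (y ^ T) ^ d = 1 := by
    rw [← zpow_natCast, ← zpow_mul, mul_comm, ← hT, hprod]
  have hz0 : y ^ T ≠ 0 := zpow_ne_zero _ hy0
  have hzx : (y ^ T) ^ xv e q = y ^ T := by
    refine fix_of_pow_AA (by omega) hz0 ?_
    obtain ⟨c, hc⟩ : d ∣ AA e 1 q := Nat.gcd_dvd_right _ _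
    rw [hc, pow_mul, hz, one_pow]
  have h5 := orderOf_dvd_natAbs hF hMk (by rw [hR]; exact orb_nodup _ _) hT0 hz0 hzx fun w hw => by
    rw [hR] at hw
    exact zpow_of_mem_orb rfl hzx hw
  have h6 : AA e n q = T.natAbs * (AA e 1 q * d) := by
    rw [← habs, ← hgeom, hT, Int.natAbs_mul, Int.natAbs_mul, Int.natAbs_natCast,
      ← AA_natAbs (e := e) (i := 1) (by omega : 1 ≤ q), pow_one]
    ring
  rw [h6]
  exact Nat.mul_dvd_mul_right h5 _

/-- The torus of order `x ^ (n - 1) - 1`. -/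
theorem per_pred (hF : Fintype.card F = q ^ (cond e 0 1 + 1)) (hn : 3 ≤ n)
    {g : L} {M : Matrix (Fin n) (Fin n) F} (hdet : M.det = 1) (hM : Cl (xv e q) (evs E M))
    (hMk : ∀ k : ℕ, g ^ k = 1 ↔ ∃ c : F, M ^ k = c • (1 : Matrix (Fin n) (Fin n) F)) {y : E} (hy : y ∈ evs E M)
    (hper : per (xv e q) y = n - 1) : orderOf g * Nat.gcd n (AA e 1 q) ∣ AA e (n - 1) q := by
  classical
  have hq : 2 ≤ q := two_le_of_card hF
  have hcard : Multiset.card (evs E M) = n := by rw [card_evs, Fintype.card_fin]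
  obtain ⟨μ, hR, hμ⟩ := eq_cons_orb hM hy (by rw [hcard, hper]; omega)
  have hy0 := hM.ne_zero hy
  have hμR : μ ∈ evs E M := by rw [hR]; exact Multiset.mem_cons_self _ _
  have hμ0 := hM.ne_zero hμR
  set d := Nat.gcd n (AA e 1 q) with hd
  have hd1 : (d : ℤ) ∣ xv e q - 1 := by
    have h1 : d ∣ AA e 1 q := Nat.gcd_dvd_right _ _
    rw [← AA_natAbs (by omega : 1 ≤ q), pow_one] at h1
    exact Int.natCast_dvd.2 h1
  obtain ⟨T, hT⟩ : (d : ℤ) ∣ xv e q ^ (n - 1) - 1 := hd1.trans (sub_one_dvd_pow_sub_one _ _)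
  have habs := AA_natAbs (e := e) (i := n - 1) (by omega : 1 ≤ q)
  have hpos := AA_pos (e := e) (i := n - 1) hq (by omega)
  have hT0 : T ≠ 0 := by
    rintro rfl
    rw [mul_zero] at hT
    rw [hT] at habs
    simp at habs
    omega
  have hz0 : y ^ T ≠ 0 := zpow_ne_zero _ hy0
  have hz : (y ^ T) ^ d = 1 := by
    rw [← zpow_natCast, ← zpow_mul, mul_comm, ← hT, zpow_sub₀ hy0, ← hper, pow_per, zpow_one, div_self hy0]
  have hzx : (y ^ T) ^ xv e q = y ^ T := by
    refine fix_of_pow_AA (by omega) hz0 ?_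
    obtain ⟨c, hc⟩ : d ∣ AA e 1 q := Nat.gcd_dvd_right _ _
    rw [hc, pow_mul, hz, one_pow]
  have horb : ∀ w ∈ orb (xv e q) y, w ^ T = y ^ T := fun w hw => zpow_of_mem_orb rfl hzx hw
  have hprod : μ ^ T * (y ^ T) ^ (n - 1) = 1 := by
    have h1 : ((evs E M).map fun w => w ^ T).prod = 1 := by
      have h2 : ((evs E M).map fun w => w ^ T).prod = (evs E M).prod ^ T := by
        generalize evs E M = R
        induction R using Multiset.induction_on with
        | empty => simp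
        | cons a R ih => rw [Multiset.map_cons, Multiset.prod_cons, Multiset.prod_cons, mul_zpow, ih]
      rw [h2, prod_evs, hdet, map_one, one_zpow]
    rw [hR, Multiset.map_cons, Multiset.prod_cons, Multiset.map_congr rfl horb, Multiset.map_const',
      Multiset.prod_replicate, card_orb, hper] at h1
    exact h1
  have hzn : (y ^ T) ^ n = 1 := by
    obtain ⟨c, hc⟩ : d ∣ n := Nat.gcd_dvd_left _ _
    conv_lhs => rw [hc]
    rw [pow_mul, hz, one_pow]
  have hμT : μ ^ T = y ^ T := by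
    have h1 : (y ^ T) ^ (n - 1) * y ^ T = 1 := by
      rw [← pow_succ, Nat.sub_add_cancel (by omega), hzn]
    have h2 : (y ^ T) ^ (n - 1) ≠ 0 := pow_ne_zero _ hz0
    apply mul_right_cancel₀ h2
    rw [hprod, mul_comm, h1]
  have h5 := orderOf_dvd_natAbs hF hMk (by
    rw [hR, Multiset.nodup_cons]
    exact ⟨notMem_orb hM (by omega) hμ, orb_nodup _ _⟩) hT0 hz0 hzx fun w hw => by
    rw [hR, Multiset.mem_cons] at hw
    rcases hw with rfl | hw
    · exact hμT
    · exact horb w hw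
  have h6 : AA e (n - 1) q = T.natAbs * d := by
    rw [← habs, hT, Int.natAbs_mul, Int.natAbs_natCast, mul_comm]
  rw [h6]
  exact Nat.mul_dvd_mul_right h5 _

end

section Four

variable {F : Type*} [Field F] [Fintype F] {E : Type*} [Field E] [IsAlgClosed E] [Algebra F E]
variable {e : Bool} {q : ℕ} {L : Type*} [Group L]

theorem AA_one (e : Bool) (q : ℕ) : AA e 1 q = M1 e q := by
  unfold AA M1
  cases e
  · simp
  · simp

theorem AA_three (e : Bool) (q : ℕ) : AA e 3 q = M3 e q := by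
  unfold AA M3
  cases e
  · simp
  · simp

theorem AA_four (e : Bool) {q : ℕ} (hq : 1 ≤ q) : AA e 4 q = AA e 1 q * M4 e q := by
  have h1 : AA e 4 q = q ^ 4 - 1 := by
    unfold AA
    cases e <;> simp
  have h2 : q ^ 4 - 1 = (q - 1) * ((q ^ 2 + 1) * (q + 1)) := by
    obtain ⟨j, rfl⟩ : ∃ j, q = j + 1 := ⟨q - 1, by omega⟩
    have : (j + 1) ^ 4 = (j + 1 - 1) * (((j + 1) ^ 2 + 1) * (j + 1 + 1)) + 1 := by
      rw [Nat.add_sub_cancel]; ring
    omega
  rw [h1, h2, AA_one]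
  unfold M1 M4
  cases e
  · simp only [Bool.false_eq_true, if_false]
    ring
  · simp only [if_true]

/-- **The spectrum, all characteristics.** The order of an element divides the order of the image of a torus, or the
semisimple part has order dividing `q² - 1`. -/
theorem spec_gen (hL : Lin E L e 4 q F) (hF : Fintype.card F = q ^ (cond e 0 1 + 1)) (g : L) :
    orderOf g * Nat.gcd 4 (M1 e q) ∣ M3 e q ∨ orderOf g * Nat.gcd 4 (M1 e q) ∣ M4 e q ∨
      ∃ M : Matrix (Fin 4) (Fin 4) F, M.det = 1 ∧ Cl (xv e q) (evs E M) ∧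
        (∀ k : ℕ, g ^ k = 1 ↔ ∃ c : F, M ^ k = c • (1 : Matrix (Fin 4) (Fin 4) F)) ∧
        ∀ y ∈ evs E M, y ^ (q ^ 2 - 1) = 1 := by
  have hq : 2 ≤ q := two_le_of_card hF
  obtain ⟨M, hdet, hM, hMk⟩ := hL g
  have hcard : Multiset.card (evs E M) = 4 := by rw [card_evs, Fintype.card_fin]
  by_cases h4 : ∃ y ∈ evs E M, per (xv e q) y = 4
  · obtain ⟨y, hy, hy4⟩ := h4
    right; left
    have h1 := per_top hF (by norm_num) hdet hM hMk hy hy4
    rw [AA_four e (by omega)] at h1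
    have h2 : 0 < AA e 1 q := AA_pos hq le_rfl
    rw [AA_one] at h1 h2
    have h3 : orderOf g * (M1 e q * Nat.gcd 4 (M1 e q)) = M1 e q * (orderOf g * Nat.gcd 4 (M1 e q)) := by ring
    rw [h3] at h1
    exact Nat.dvd_of_mul_dvd_mul_left h2 h1
  by_cases h3 : ∃ y ∈ evs E M, per (xv e q) y = 3
  · obtain ⟨y, hy, hy3⟩ := h3
    left
    have h1 := per_pred hF (by norm_num) hdet hM hMk hy (by rw [hy3])
    rw [AA_one] at h1
    have h2 : AA e (4 - 1) q = M3 e q := AA_three e q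
    rwa [h2] at h1
  right; right
  refine ⟨M, hdet, hM, hMk, fun y hy => ?_⟩
  push Not at h3 h4
  have h5 := hM.per_pos hy
  have h6 : per (xv e q) y ≤ 4 := by
    rw [← card_orb (xv e q) y, ← hcard]
    exact Multiset.card_le_card (hM.orb_le hy)
  have h7 := h3 y hy
  have h8 := h4 y hy
  have hy0 := hM.ne_zero hy
  have h9 : y ^ ((xv e q) ^ 2) = y := by
    have h10 : per (xv e q) y = 1 ∨ per (xv e q) y = 2 := by omega
    have h11 := pow_per (xv e q) y
    rcases h10 with h10 | h10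
    · rw [h10, pow_one] at h11
      rw [pow_two, zpow_mul, h11, h11]
    · rwa [h10] at h11
  have h12 : ((q ^ 2 - 1 : ℕ) : ℤ) = (xv e q) ^ 2 - 1 := by
    rw [Nat.cast_sub (Nat.one_le_pow _ _ (by omega))]
    unfold xv
    split_ifs <;> push_cast <;> ring
  rw [← zpow_natCast, h12, zpow_sub₀ hy0, h9, zpow_one, div_self hy0]

theorem four_spec_card (M : Matrix (Fin 4) (Fin 4) F) (y : E) [DecidableEq E] : (evs E M).count y ≤ 4 := by
  have := Multiset.count_le_card y (evs E M)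
  rwa [card_evs, Fintype.card_fin] at this

/-- **The spectrum in characteristic three.** -/
theorem spec_three [CharP F 3] (hL : Lin E L e 4 q F) (hF : Fintype.card F = q ^ (cond e 0 1 + 1)) (g : L) :
    orderOf g * Nat.gcd 4 (M1 e q) ∣ M3 e q ∨ orderOf g * Nat.gcd 4 (M1 e q) ∣ M4 e q ∨
      orderOf g ∣ 3 * (q ^ 2 - 1) ∨ orderOf g = 9 := by
  classical
  have hq : 2 ≤ q := two_le_of_card hF
  have hq2 : 0 < q ^ 2 - 1 := by
    have : 2 ^ 2 ≤ q ^ 2 := Nat.pow_le_pow_left hq 2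
    omega
  rcases spec_gen hL hF g with h | h | ⟨M, hdet, hM, hMk, hy⟩
  · exact Or.inl h
  · exact Or.inr (Or.inl h)
  right; right
  by_cases hc : ∀ y ∈ evs E M, (evs E M).count y ≤ 3
  · left
    apply orderOf_dvd_of_pow_eq_one
    rw [hMk]
    refine ⟨1 ^ 3 ^ 1, ?_⟩
    have h1 := pow_of_count (E := E) (M := M) (p := 3) Nat.prime_three (k := q ^ 2 - 1) (a := 1) (c := 1) hq2
      (fun y h => by rw [hy y h, map_one]) (fun y h => by simpa using hc y h)
    rw [← h1]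
    congr 1
    ring
  · push Not at hc
    obtain ⟨y, hyM, hy3⟩ := hc
    have hcard : Multiset.card (evs E M) = 4 := by rw [card_evs, Fintype.card_fin]
    have h1 : ∀ z ∈ evs E M, z = y := fun z hz => eq_of_count_four hcard hy3 hz
    have hyx : y ^ xv e q = y := h1 _ (hM.mem hyM)
    obtain ⟨c, hc⟩ := mem_range_of_fix hF (hM.ne_zero hyM) hyx
    have h2 : orderOf g ∣ 9 := by
      apply orderOf_dvd_of_pow_eq_one
      rw [hMk]
      refine ⟨c ^ 3 ^ 2, ?_⟩
      have h3 := pow_of_count (E := E) (M := M) (p := 3) Nat.prime_three (k := 1) (a := 2) (c := c) one_pos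
        (fun z hz => by rw [h1 z hz, pow_one, hc]) (fun z _ => by
          have := four_spec_card (E := E) M z
          omega)
      rw [← h3]
      norm_num
    have h3 : orderOf g ∣ 3 ^ 2 := by simpa using h2
    obtain ⟨j, hj, hj2⟩ := (Nat.dvd_prime_pow Nat.prime_three).1 h3
    interval_cases j
    · left; rw [hj2, pow_zero]; exact one_dvd _
    · left; rw [hj2, pow_one]; exact dvd_mul_right _ _
    · right; rw [hj2]; norm_num

/-- **The spectrum in characteristic two.** -/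
theorem spec_two [CharP F 2] (hL : Lin E L e 4 q F) (hF : Fintype.card F = q ^ (cond e 0 1 + 1)) (g : L) :
    orderOf g * Nat.gcd 4 (M1 e q) ∣ M3 e q ∨ orderOf g * Nat.gcd 4 (M1 e q) ∣ M4 e q ∨
      orderOf g ∣ 2 * (q ^ 2 - 1) ∨ orderOf g ∣ 4 * M1 e q := by
  classical
  have hq : 2 ≤ q := two_le_of_card hF
  have hq2 : 0 < q ^ 2 - 1 := by
    have : 2 ^ 2 ≤ q ^ 2 := Nat.pow_le_pow_left hq 2
    omega
  rcases spec_gen hL hF g with h | h | ⟨M, hdet, hM, hMk, hy⟩
  · exact Or.inl h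
  · exact Or.inr (Or.inl h)
  right; right
  by_cases hc : ∀ y ∈ evs E M, (evs E M).count y ≤ 2
  · left
    apply orderOf_dvd_of_pow_eq_one
    rw [hMk]
    refine ⟨1 ^ 2 ^ 1, ?_⟩
    have h1 := pow_of_count (E := E) (M := M) (p := 2) Nat.prime_two (k := q ^ 2 - 1) (a := 1) (c := 1) hq2
      (fun y h => by rw [hy y h, map_one]) (fun y h => by simpa using hc y h)
    rw [← h1]
    congr 1
    ring
  · right
    push Not at hc
    obtain ⟨y, hyM, hy3⟩ := hc
    have hcard : Multiset.card (evs E M) = 4 := by rw [card_evs, Fintype.card_fin]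
    have hyx : y ^ xv e q = y := fix_of_count hM hcard hy3
    obtain ⟨z, hR, hzx⟩ := eq_cons_of_count hM hcard hy3
    have hAA : 0 < M1 e q := by
      rw [← AA_one]; exact AA_pos hq le_rfl
    have key : ∀ w : E, w ≠ 0 → w ^ xv e q = w → w ^ M1 e q = 1 := by
      intro w hw0 hwx
      have h1 : w ^ (xv e q - 1) = 1 := by rw [zpow_sub₀ hw0, hwx, zpow_one, div_self hw0]
      rw [← AA_one]
      rcases AA_eq (e := e) (i := 1) (by omega : 1 ≤ q) with h | h
      · rw [← zpow_natCast, h, pow_one, h1]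
      · rw [← zpow_natCast, h, pow_one, zpow_neg, h1, inv_one]
    have hall : ∀ w ∈ evs E M, w ^ M1 e q = 1 := by
      intro w hw
      have h1 : w ^ xv e q = w := by
        rw [hR, Multiset.mem_cons] at hw
        rcases hw with rfl | hw
        · exact hzx
        · rw [Multiset.eq_of_mem_replicate hw]; exact hyx
      exact key w (hM.ne_zero hw) h1
    apply orderOf_dvd_of_pow_eq_one
    rw [hMk]
    refine ⟨1 ^ 2 ^ 2, ?_⟩
    have h1 := pow_of_count (E := E) (M := M) (p := 2) Nat.prime_two (k := M1 e q) (a := 2) (c := 1) hAA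
      (fun y h => by rw [hall y h, map_one]) (fun y h => by
        have := four_spec_card (E := E) M y
        omega)
    rw [← h1]
    congr 1
    ring

theorem coprime_of_prime {a b : ℕ} (h : ∀ r : ℕ, r.Prime → r ∣ a → ¬ r ∣ b) : Nat.Coprime a b := by
  apply Nat.coprime_of_dvd
  intro r hr h1 h2
  exact h r hr h1 h2

/-- **Characteristic three.** -/
theorem fact3 {F : Type*} [Field F] [Fintype F] {e : Bool} {k : ℕ} {L : Type*} [Group L]
    (h : IsL L e 4 (3 ^ k) F) (hF : Fintype.card F = (3 ^ k) ^ (cond e 0 1 + 1)) (hk : 1 ≤ k)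
    (hk2 : e = false → 2 ≤ k) : Fact3 e k L := by
  have hch : CharP F 3 := charP_of hF Nat.prime_three rfl hk
  have hL := h.lin (E := AlgebraicClosure F) hF (by norm_num)
  obtain ⟨hq3, hq0, hodd⟩ := q_mod k hk
  have hq1 : 1 ≤ 3 ^ k := by omega
  have hdd : dd e (3 ^ k) = Nat.gcd 4 (M1 e (3 ^ k)) := by
    unfold dd M1; split_ifs <;> rfl
  have hdpos := dd_pos e (3 ^ k)
  refine ⟨hk, hk2, fun x => ?_, ?_, ?_, ?_⟩
  · rcases spec_three hL hF x with h1 | h1 | h1 | h1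
    · left
      have h2 := dd_mul_N3 e hq1
      have h3 : M3 e (3 ^ k) = dd e (3 ^ k) * N3 e (3 ^ k) := by rw [h2]; rfl
      rw [h3, ← hdd, mul_comm] at h1
      exact Nat.dvd_of_mul_dvd_mul_left hdpos h1
    · right; left
      have h2 := dd_mul_N4 e hq1 hodd
      have h3 : M4 e (3 ^ k) = dd e (3 ^ k) * N4 e (3 ^ k) := by rw [h2]; rfl
      rw [h3, ← hdd, mul_comm] at h1
      exact Nat.dvd_of_mul_dvd_mul_left hdpos h1
    · exact Or.inr (Or.inr (Or.inl h1))
    · exact Or.inr (Or.inr (Or.inr h1))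
  · obtain ⟨g, hg⟩ := exists_pow h hF (by norm_num) (a := 2) Nat.prime_three rfl hk (by norm_num) (by norm_num)
    exact ⟨g, by rw [hg]; norm_num⟩
  · refine h.exists_tor_le hF (by norm_num) (i := 3) (by norm_num) (by norm_num) ?_ ?_ ?_
    · have := R3_odd e hodd
      exact Nat.pos_of_ne_zero (by omega)
    · rw [AA_one]
      apply coprime_of_prime
      intro r hr h1 h2
      exact (of_dvd_R3 hq1 hq0 hr h1).1 (h2.trans (M1_dvd e hq1))
    · rw [AA_three]
      have h1 : ((R3 e (3 ^ k) : ℕ) : ℤ) ∣ ((M3 e (3 ^ k) : ℕ) : ℤ) := by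
        rw [M3_sg e hq1, R3_sg e hq1]
        exact ⟨sg e (3 ^ k) - 1, by ring⟩
      exact_mod_cast h1
  · refine h.exists_tor_le hF (by norm_num) (i := 4) (by norm_num) le_rfl ?_ ?_ ?_
    · have := R4_odd hodd
      exact Nat.pos_of_ne_zero (by omega)
    · rw [AA_one]
      apply coprime_of_prime
      intro r hr h1 h2
      exact (of_dvd_R4 hq1 hodd hr h1).1 (h2.trans (M1_dvd e hq1))
    · rw [AA_four e hq1]
      have h1 : R4 (3 ^ k) ∣ M4 e (3 ^ k) := by
        have h2 := (R4_dvd_N4 e hq1 hodd).trans (N4_dvd e hq1 hodd)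
        exact h2
      exact h1.mul_left _

/-- **Characteristic two.** -/
theorem fact2 {F : Type*} [Field F] [Fintype F] {e : Bool} {k : ℕ} {L : Type*} [Group L]
    (h : IsL L e 4 (2 ^ k) F) (hF : Fintype.card F = (2 ^ k) ^ (cond e 0 1 + 1)) (hk : 2 ≤ k) : Fact2 e k L := by
  have hch : CharP F 2 := charP_of hF Nat.prime_two rfl (by omega)
  have hL := h.lin (E := AlgebraicClosure F) hF (by norm_num)
  have hq2 : 2 ^ k % 2 = 0 := by
    obtain ⟨j, rfl⟩ := Nat.exists_eq_add_of_le hk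
    rw [pow_add]; omega
  have hq1 : 1 ≤ 2 ^ k := Nat.one_le_two_pow
  refine ⟨hk, fun x => ?_, ?_, ?_⟩
  · rcases spec_two hL hF x with h1 | h1 | h1 | h1
    · exact Or.inl ((dvd_mul_right _ _).trans h1)
    · exact Or.inr (Or.inl ((dvd_mul_right _ _).trans h1))
    · exact Or.inr (Or.inr (Or.inl h1))
    · exact Or.inr (Or.inr (Or.inr h1))
  · refine h.exists_tor_le hF (by norm_num) (i := 3) (by norm_num) (by norm_num) ?_ ?_ ?_
    · have := Q3_odd e (2 ^ k)
      exact Nat.pos_of_ne_zero (by omega)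
    · rw [AA_one]
      apply coprime_of_prime
      intro r hr h1 h2
      exact (of_dvd_Q3 hq1 hr h1).2.2.1 h2
    · rw [AA_three]
      refine (Q3_dvd e (2 ^ k)).trans ?_
      have h1 : ((R3 e (2 ^ k) : ℕ) : ℤ) ∣ ((M3 e (2 ^ k) : ℕ) : ℤ) := by
        rw [M3_sg e hq1, R3_sg e hq1]
        exact ⟨sg e (2 ^ k) - 1, by ring⟩
      exact_mod_cast h1
  · refine h.exists_tor_le hF (by norm_num) (i := 4) (by norm_num) le_rfl ?_ ?_ ?_
    · exact Nat.succ_pos _
    · rw [AA_one]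
      apply coprime_of_prime
      intro r hr h1 h2
      exact (of_dvd_Q4 (e := e) hq1 hq2 hr h1).2.2.1 h2
    · rw [AA_four e hq1]
      have h1 : (2 ^ k) ^ 2 + 1 ∣ M4 e (2 ^ k) := by
        unfold M4; split_ifs <;> exact dvd_mul_right _ _
      exact h1.mul_left _

end Four

end Cfsg.Agent.H402.Rec
end

-- part: H402/Rec/RowsTwo
section
prune_inst 0x20304400642200000000000242002220300000000000000170400004090ed2208000200042200902004490801000004013000000420000000a003000000704218022040091090c08a60001801004000000000000000000000000000000041000200000000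
set_option linter.all false
open scoped Cfsg.Agent.FastGrp

/-!
# Recognition of `PSL_4(q)`, `PSU_4(q)`, `q = 2 ^ k`, `k ≥ 2`: the groups of odd characteristic
-/

set_option autoImplicit false

namespace Cfsg.Agent.H402.Rec

open Cfsg

namespace Cand2

variable {e : Bool} {k : ℕ} {S : Type*} [Group S]

/-- arithmetic of the row of `PSL_2(u)`, `u` odd -/
theorem psl2_arith (h : Cand2 e k S) {P f A B : ℕ} (hP : P.Prime) (hP2 : P ≠ 2) (hf : 1 ≤ f)
    (hA : P ^ f = 2 * A + 1) (hB : B = A + 1)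
    (hspec : ∀ x : S, orderOf x ∣ P ∨ orderOf x ∣ A ∨ orderOf x ∣ B)
    (exA : ∃ x : S, orderOf x = A) (exB : ∃ x : S, orderOf x = B) : False := by
  obtain ⟨r, s, hr, hs, hrd, hsd⟩ := h.exists_primes
  obtain ⟨x3, hx3⟩ := h.ex3
  obtain ⟨x4, hx4⟩ := h.ex4
  obtain ⟨a, ha⟩ := exA
  obtain ⟨b, hb⟩ := exB
  have hQ3 := h.one_lt_Q3
  have hq := h.mod_four
  have hqq : 4 * 2 ^ k ≤ (2 ^ k) ^ 2 := by
    rw [pow_two]; exact Nat.mul_le_mul_right _ hq.2
  -- the even one and the odd one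
  obtain ⟨E, O, hEO, hE2, y, hy, z, hz, hsp, hO⟩ : ∃ E O : ℕ, (E = A ∧ O = B ∨ E = B ∧ O = A) ∧ 2 ∣ E ∧
      ∃ y : S, orderOf y = E ∧ ∃ z : S, orderOf z = O ∧
        (∀ x : S, orderOf x ∣ P ∨ orderOf x ∣ E ∨ orderOf x ∣ O) ∧ O ≤ E + 1 := by
    rcases Nat.mod_two_eq_zero_or_one A with h1 | h1
    · exact ⟨A, B, Or.inl ⟨rfl, rfl⟩, by omega, a, ha, b, hb, hspec, by omega⟩
    · refine ⟨B, A, Or.inr ⟨rfl, rfl⟩, by omega, b, hb, a, ha, fun x => ?_, by omega⟩
      rcases hspec x with h2 | h2 | h2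
      · exact Or.inl h2
      · exact Or.inr (Or.inr h2)
      · exact Or.inr (Or.inl h2)
  have hEle := h.even_le (x := y) (by rw [hy]; exact hE2)
  rw [hy] at hEle
  have hnE3 : ¬ Q3 e (2 ^ k) ∣ E := by
    intro h1
    have h2 := h.not_even3 hr hrd (x := y) (by rw [hy]; exact hrd.trans h1)
    omega
  have hnE4 : ¬ (2 ^ k) ^ 2 + 1 ∣ E := by
    intro h1
    have h2 := h.not_even4 hs hsd (x := y) (by rw [hy]; exact hsd.trans h1)
    omega
  have hnO : ¬ (Q3 e (2 ^ k) ∣ O ∧ (2 ^ k) ^ 2 + 1 ∣ O) := by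
    rintro ⟨h1, h2⟩
    exact h.not_both hr hs hrd hsd (x := z) (by rw [hz]; exact hrd.trans h1) (by rw [hz]; exact hsd.trans h2)
  have h3 : Q3 e (2 ^ k) = P ∨ Q3 e (2 ^ k) ∣ O := by
    rcases hsp x3 with h1 | h1 | h1
    · left
      rw [hx3] at h1
      rcases (Nat.dvd_prime hP).1 h1 with h2 | h2
      · omega
      · exact h2
    · exact absurd (by rwa [hx3] at h1) hnE3
    · right; rwa [hx3] at h1
  have h4 : (2 ^ k) ^ 2 + 1 = P ∨ (2 ^ k) ^ 2 + 1 ∣ O := by
    rcases hsp x4 with h1 | h1 | h1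
    · left
      rw [hx4] at h1
      rcases (Nat.dvd_prime hP).1 h1 with h2 | h2
      · omega
      · exact h2
    · exact absurd (by rwa [hx4] at h1) hnE4
    · right; rwa [hx4] at h1
  rcases h4 with h4 | h4
  · -- `P = q² + 1`: then `16 ∣ u - 1`
    have h5 : P ^ f % 16 = 1 := by
      have h6 : P % 16 = 1 := by
        obtain ⟨j, hj⟩ : ∃ j, 2 ^ k = 4 * j := ⟨2 ^ k / 4, by omega⟩
        have : (2 ^ k) ^ 2 = 16 * j ^ 2 := by rw [hj]; ring
        omega
      rw [Nat.pow_mod, h6, one_pow]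
      rfl
    have h6 : 8 ∣ A := by (clear * - hA h5; omega)
    exact h.not_eight (x := a) (by rw [ha]; exact h6)
  · rcases h3 with h3 | h3
    · -- `P = Q3`
      have h5 : O = (2 ^ k) ^ 2 + 1 := by
        obtain ⟨c, hc⟩ := h4
        have h6 : O < 2 * ((2 ^ k) ^ 2 + 1) := by (clear * - hO hEle; omega)
        have h7 : c = 1 := by
          have hO0 : 0 < O := by
            rcases hEO with ⟨-, h8⟩ | ⟨-, h8⟩
            · omega
            · rw [h8]
              rcases Nat.eq_zero_or_pos A with h9 | h9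
              · exfalso
                rw [h9] at hA
                have : 1 < P ^ f := Nat.one_lt_pow (by omega) hP.one_lt
                omega
              · exact h9
          have h8 : c ≠ 0 := by
            rintro rfl
            omega
          have h9 : c < 2 := by
            by_contra h10
            have : ((2 ^ k) ^ 2 + 1) * 2 ≤ ((2 ^ k) ^ 2 + 1) * c := Nat.mul_le_mul_left _ (by omega)
            omega
          omega
        rw [hc, h7, mul_one]
      have h6 : P ^ f ≤ 2 * (2 ^ k) ^ 2 + 3 := by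
        rcases hEO with ⟨-, h8⟩ | ⟨-, h8⟩ <;> (clear * - hA hB h5 h8; omega)
      have h6' : 2 * (2 ^ k) ^ 2 + 1 ≤ P ^ f := by
        rcases hEO with ⟨-, h8⟩ | ⟨-, h8⟩ <;> (clear * - hA hB h5 h8; omega)
      have hR := Q3_mul e (2 ^ k)
      have hRle : R3 e (2 ^ k) ≤ (2 ^ k) ^ 2 + 2 ^ k + 1 := by
        cases e
        · show (2 ^ k) ^ 2 - 2 ^ k + 1 ≤ _
          (clear * - hqq; omega)
        · exact le_rfl
      have hRge : (2 ^ k) ^ 2 + 1 ≤ R3 e (2 ^ k) + 2 ^ k := by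
        cases e
        · show _ ≤ ((2 ^ k) ^ 2 - 2 ^ k + 1) + 2 ^ k
          omega
        · show _ ≤ ((2 ^ k) ^ 2 + 2 ^ k + 1) + 2 ^ k
          omega
      have hgle : R3 e (2 ^ k) ≤ 3 * P := by
        rw [← hR, h3]
        exact Nat.mul_le_mul_right _ (by rcases gcd_three (R3 e (2 ^ k)) with h8 | h8 <;> omega)
      have hgge : P ≤ R3 e (2 ^ k) := by
        rw [← hR, h3]
        exact Nat.le_mul_of_pos_left _ (by rcases gcd_three (R3 e (2 ^ k)) with h8 | h8 <;> omega)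
      have hf2 : 2 ≤ f := by
        by_contra h8
        have h9 : f = 1 := by omega
        rw [h9, pow_one] at h6'
        (clear * - hq hqq h6' hRle hgge; omega)
      have h7 : P ^ 2 ≤ P ^ f := Nat.pow_le_pow_right hP.pos hf2
      rcases Nat.lt_or_ge (2 ^ k) 8 with h8 | h8
      · -- `q = 4`
        have hq4 : 2 ^ k = 4 := by omega
        rw [hq4] at h6 h6' hR hRle hRge hgle hgge h3
        have hP1 : P = 7 ∨ P = 13 := by
          rw [← h3]
          cases e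
          · right; rfl
          · left; rfl
        rcases hP1 with rfl | rfl
        · have h9 : f < 3 := by
            by_contra h10
            have : 7 ^ 3 ≤ 7 ^ f := Nat.pow_le_pow_right (by norm_num) (by omega)
            omega
          obtain rfl : f = 2 := by omega
          norm_num at h6
        · omega
      · have h9 : (2 ^ k) ^ 2 + 1 ≤ 3 * P + 2 ^ k := by omega
        have h10 : 8 * 2 ^ k ≤ (2 ^ k) ^ 2 := by
          rw [pow_two]; exact Nat.mul_le_mul_right _ h8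
        have h11 : P ^ 2 ≤ 2 * (2 ^ k) ^ 2 + 3 := h7.trans h6
        generalize hQ : 2 ^ k = Q at *
        have h12 : 7 * Q ^ 2 + 8 ≤ 24 * P := by (clear * - hRge hgle h10; omega)
        have h13 : (7 * Q ^ 2 + 8) ^ 2 ≤ (24 * P) ^ 2 := Nat.pow_le_pow_left h12 2
        have h14 : (24 * P) ^ 2 ≤ 576 * (2 * Q ^ 2 + 3) := by
          have : (24 * P) ^ 2 = 576 * P ^ 2 := by ring
          rw [this]
          exact Nat.mul_le_mul_left _ h11
        have h15 : 64 ≤ Q ^ 2 := by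
          calc 64 = 8 ^ 2 := rfl
            _ ≤ Q ^ 2 := Nat.pow_le_pow_left h8 2
        have h16 : ∀ T : ℕ, 64 ≤ T → (7 * T + 8) ^ 2 ≤ 576 * (2 * T + 3) → False := by
          intro T hT1 hT2
          have h17 : (7 * T + 8) ^ 2 = 49 * (T * T) + 112 * T + 64 := by ring
          have h18 : 64 * T ≤ T * T := Nat.mul_le_mul_right _ hT1
          generalize T * T = W at *
          omega
        exact h16 _ h15 (h13.trans h14)
    · exact hnO ⟨h3, h4⟩

/-- **The row of `PSL_2(u)`, `u` odd.** -/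
theorem psl2 (h : Cand2 e k S) {F : Type*} [Field F] [Fintype F] (h2 : (2 : F) ≠ 0) (h4 : 4 ≤ Fintype.card F)
    (E : S ≃* Matrix.ProjectiveSpecialLinearGroup (Fin 2) F) : False := by
  obtain ⟨P, hP⟩ := CharP.exists F
  obtain ⟨f, hPp, hf⟩ := FiniteField.card F P
  have : Fact P.Prime := ⟨hPp⟩
  have hP2 : P ≠ 2 := by
    rintro rfl
    exact h2 (by exact_mod_cast CharP.cast_eq_zero F 2)
  have hodd : Odd (Fintype.card F) := by
    rw [hf]
    exact (hPp.odd_of_ne_two hP2).pow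
  obtain ⟨A, hA⟩ := hodd
  have hgcd : Nat.gcd 2 (Fintype.card F - 1) = 2 := Nat.gcd_eq_left (by rw [hA]; exact ⟨A, by omega⟩)
  have hA1 : (Fintype.card F - 1) / Nat.gcd 2 (Fintype.card F - 1) = A := by rw [hgcd]; omega
  have hB1 : (Fintype.card F + 1) / Nat.gcd 2 (Fintype.card F - 1) = A + 1 := by rw [hgcd]; omega
  have hS := S2475.result (F := F) P h4
  rw [hA1, hB1] at hS
  have h' := h.of_equiv E
  refine h'.psl2_arith (P := P) (f := f) (A := A) (B := A + 1) hPp hP2 f.pos (by rw [← hf, hA]) rfl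
    (fun x => ?_) ?_ ?_
  · have : orderOf x ∈ Set.range (orderOf : Matrix.ProjectiveSpecialLinearGroup (Fin 2) F → ℕ) := ⟨x, rfl⟩
    rw [hS] at this
    exact this
  · have : A ∈ Set.range (orderOf : Matrix.ProjectiveSpecialLinearGroup (Fin 2) F → ℕ) := by
      rw [hS]; exact Or.inr (Or.inl dvd_rfl)
    exact this
  · have : A + 1 ∈ Set.range (orderOf : Matrix.ProjectiveSpecialLinearGroup (Fin 2) F → ℕ) := by
      rw [hS]; exact Or.inr (Or.inr dvd_rfl)
    exact this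

/-- **The row of `PSp_4(u)`, `u` odd.** -/
theorem psp4 (h : Cand2 e k S) {F : Type*} [Field F] [Fintype F] (h2 : (2 : F) ≠ 0) (E : S ≃* PSp 2 F) : False := by
  obtain ⟨P, hP⟩ := CharP.exists F
  obtain ⟨f, hPp, hf⟩ := FiniteField.card F P
  have : Fact P.Prime := ⟨hPp⟩
  have hP2 : P ≠ 2 := by
    rintro rfl
    exact h2 (by exact_mod_cast CharP.cast_eq_zero F 2)
  have hodd : Odd (P ^ (f : ℕ)) := (hPp.odd_of_ne_two hP2).pow
  obtain ⟨A, hA⟩ := hodd
  have hP3 : 3 ≤ P := by have := hPp.two_le; omega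
  have h3 : 3 ≤ P ^ (f : ℕ) := hP3.trans (Nat.le_self_pow f.ne_zero P)
  have hiff := fun m => Cfsg.Agent.H374.SpFour.exists_iff (F := F) (p := P) (n := f) f.ne_zero hf h3 m
  have h' := h.of_equiv E
  have hgcd : Nat.gcd 2 (P ^ (f : ℕ) - 1) = 2 := Nat.gcd_eq_left (by rw [hA]; exact ⟨A, by omega⟩)
  obtain ⟨r, s, hr, hs, hrd, hsd⟩ := h'.exists_primes
  obtain ⟨x3, hx3⟩ := h'.ex3
  obtain ⟨x4, hx4⟩ := h'.ex4
  have hu2 : (P ^ (f : ℕ)) ^ 2 = 4 * (A * (A + 1)) + 1 := by rw [hA]; ring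
  have hAA : 2 ∣ A * (A + 1) := (Nat.even_mul_succ_self A).two_dvd
  -- every element order of `PSp_4(u)` divides an even element order, `(u² + 1) / 2` or 9
  have key : ∀ x : PSp 2 F, (∃ y : PSp 2 F, orderOf x ∣ orderOf y ∧ 2 ∣ orderOf y) ∨
      orderOf x ∣ 2 * (A * (A + 1)) + 1 ∨ orderOf x ∣ 9 := by
    intro x
    rcases (hiff (orderOf x)).1 ⟨x, rfl⟩ with h1 | h1 | h1 | h1 | ⟨-, h1⟩ | ⟨h1, -⟩
    · left
      obtain ⟨y, hy⟩ := (hiff (P * (P ^ (f : ℕ) - 1))).2 (Or.inl dvd_rfl)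
      exact ⟨y, by rw [hy]; exact h1, by rw [hy]; exact Dvd.dvd.mul_left ⟨A, by omega⟩ _⟩
    · left
      obtain ⟨y, hy⟩ := (hiff (P * (P ^ (f : ℕ) + 1))).2 (Or.inr (Or.inl dvd_rfl))
      exact ⟨y, by rw [hy]; exact h1, by rw [hy]; exact Dvd.dvd.mul_left ⟨A + 1, by omega⟩ _⟩
    · left
      obtain ⟨y, hy⟩ := (hiff (((P ^ (f : ℕ)) ^ 2 - 1) / Nat.gcd 2 (P ^ (f : ℕ) - 1))).2
        (Or.inr (Or.inr (Or.inl dvd_rfl)))
      refine ⟨y, by rw [hy]; exact h1, ?_⟩
      rw [hy, hgcd, hu2]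
      obtain ⟨c, hc⟩ := hAA
      exact ⟨2 * c, by omega⟩
    · right; left
      rw [hgcd, hu2] at h1
      have : (4 * (A * (A + 1)) + 1 + 1) / 2 = 2 * (A * (A + 1)) + 1 := by (clear * -; omega)
      rwa [this] at h1
    · right; right; exact h1
    · exact absurd h1 hP2
  obtain ⟨z, hz⟩ : ∃ z : PSp 2 F, orderOf z = 2 * (A * (A + 1)) + 1 := by
    obtain ⟨y, hy⟩ := (hiff (((P ^ (f : ℕ)) ^ 2 + 1) / Nat.gcd 2 (P ^ (f : ℕ) - 1))).2
      (Or.inr (Or.inr (Or.inr (Or.inl dvd_rfl))))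
    refine ⟨y, ?_⟩
    rw [hy, hgcd, hu2]
    omega
  have hr9 : ∀ t : ℕ, t.Prime → t ≠ 3 → ¬ t ∣ 9 := by
    intro t ht ht3 h1
    have : t ∣ 3 ^ 2 := by simpa using h1
    exact ht3 ((Nat.prime_dvd_prime_iff_eq ht Nat.prime_three).1 (ht.dvd_of_dvd_pow this))
  have hr3 : r ∣ orderOf z := by
    have h0 : r ∣ orderOf x3 := by rw [hx3]; exact hrd
    rcases key x3 with ⟨y, h1, h5⟩ | h1 | h1
    · exfalso
      have := h'.not_even3 hr hrd (h0.trans h1)
      omega
    · rw [hz]; exact h0.trans h1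
    · exact absurd (h0.trans h1) (hr9 r hr (of_dvd_Q3 h'.one_le hr hrd).2.2.2.2)
  have hs3 : s ∣ orderOf z := by
    have h0 : s ∣ orderOf x4 := by rw [hx4]; exact hsd
    rcases key x4 with ⟨y, h1, h5⟩ | h1 | h1
    · exfalso
      have := h'.not_even4 hs hsd (h0.trans h1)
      omega
    · rw [hz]; exact h0.trans h1
    · exact absurd (h0.trans h1) (hr9 s hs (of_dvd_Q4 (e := e) h'.one_le h'.even hs hsd).2.2.2.2)
  exact h'.not_both hr hs hrd hsd hr3 hs3

/-- **The row of the Ree groups `²G₂(u)`.** -/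
theorem ree (h : Cand2 e k S) (hR : Lie.IsoRee S) : False := by
  obtain ⟨K, iK, iK', m, hm, hK, ⟨E⟩⟩ := hR
  have h' := h.of_equiv E
  have hiff := fun d => S1159.result (K := K) hm hK d
  obtain ⟨r, s, hr, hs, hrd, hsd⟩ := h'.exists_primes
  obtain ⟨x4, hx4⟩ := h'.ex4
  -- numbers
  have h9 : (9 : ℕ) ^ m % 8 = 1 := by rw [Nat.pow_mod]; norm_num
  have hu : (3 : ℕ) ^ (2 * m + 1) = 3 * 9 ^ m := by rw [pow_succ, pow_mul]; norm_num; ring
  have ha : (3 : ℕ) ^ (m + 1) = 3 * 3 ^ m := by rw [pow_succ]; ring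
  have h93 : (9 : ℕ) ^ m = 3 ^ m * 3 ^ m := by
    rw [show (9 : ℕ) = 3 * 3 from rfl, mul_pow]
  have h3m : 3 ≤ 3 ^ m := Nat.le_self_pow (by omega) 3
  have h3m2 : 3 * 3 ^ m ≤ 9 ^ m := by rw [h93]; exact Nat.mul_le_mul_right _ h3m
  set u := (3 : ℕ) ^ (2 * m + 1) with hudef
  set a := (3 : ℕ) ^ (m + 1) with hadef
  have hu8 : u % 8 = 3 := by omega
  -- two elements of even order
  obtain ⟨y1, hy1⟩ := (hiff (u - 1)).2 (Or.inr (Or.inr (Or.inl dvd_rfl)))
  obtain ⟨y2, hy2⟩ := (hiff ((u + 1) / 2)).2 (Or.inr (Or.inr (Or.inr (Or.inl dvd_rfl))))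
  have hd1 : (u - 1) / 2 ∣ (2 ^ k) ^ 2 - 1 :=
    h'.odd_dvd (x := y1) (by rw [hy1]; omega) (by omega) (by rw [hy1]; exact ⟨2, by omega⟩)
  have hd2 : (u + 1) / 4 ∣ (2 ^ k) ^ 2 - 1 :=
    h'.odd_dvd (x := y2) (by rw [hy2]; omega) (by omega) (by rw [hy2]; exact ⟨2, by omega⟩)
  have hcop : Nat.Coprime ((u - 1) / 2) ((u + 1) / 4) := by
    rw [Nat.coprime_iff_gcd_eq_one]
    have h1 : Nat.gcd ((u - 1) / 2) ((u + 1) / 4) ∣ (u - 1) / 2 := Nat.gcd_dvd_left _ _
    have h2 : Nat.gcd ((u - 1) / 2) ((u + 1) / 4) ∣ (u + 1) / 4 := Nat.gcd_dvd_right _ _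
    have h3 : Nat.gcd ((u - 1) / 2) ((u + 1) / 4) ∣ 1 := by
      have h4 : 2 * ((u + 1) / 4) - (u - 1) / 2 = 1 := by omega
      have h5 := Nat.dvd_sub (h2.mul_left 2) h1
      rwa [h4] at h5
    exact Nat.dvd_one.1 h3
  have hprod := hcop.mul_dvd_of_dvd_of_dvd hd1 hd2
  have hq := h'.mod_four
  have hqq : 4 * 2 ^ k ≤ (2 ^ k) ^ 2 := by
    rw [pow_two]; exact Nat.mul_le_mul_right _ hq.2
  have hle := Nat.le_of_dvd (by omega) hprod
  -- `q² + 1` divides an odd order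
  have hs3 : ¬ s ∣ 9 := by
    intro h1
    have : s ∣ 3 ^ 2 := by simpa using h1
    exact (of_dvd_Q4 (e := e) h'.one_le h'.even hs hsd).2.2.2.2
      ((Nat.prime_dvd_prime_iff_eq hs Nat.prime_three).1 (hs.dvd_of_dvd_pow this))
  have hbound : (2 ^ k) ^ 2 + 1 ≤ u + a + 1 := by
    rcases (hiff _).1 ⟨x4, hx4⟩ with h1 | h1 | h1 | h1 | h1 | h1
    · exfalso
      have h2 := Nat.le_of_dvd (by norm_num) h1
      omega
    · exact absurd (hsd.trans h1) hs3
    · exfalso
      have h2 := h'.not_even4 hs hsd (x := y1) (by rw [hy1]; exact hsd.trans h1)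
      (clear * - h9 hu hy1 h2; omega)
    · exfalso
      have h2 := h'.not_even4 hs hsd (x := y2) (by rw [hy2]; exact hsd.trans h1)
      omega
    · have h2 := Nat.le_of_dvd (by omega) h1
      (clear * - h3m hq hqq h2; omega)
    · exact Nat.le_of_dvd (by (clear * - h3m hu; omega)) h1
  obtain ⟨c, hc⟩ : ∃ c, u = 8 * c + 3 := ⟨u / 8, by (clear * - hu8; omega)⟩
  have e1 : (u - 1) / 2 = 4 * c + 1 := by (clear * - h9 hc; omega)
  have e2 : (u + 1) / 4 = 2 * c + 1 := by (clear * - hc; omega)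
  rw [e1, e2] at hle
  have h5 : 3 * a ≤ u := by omega
  have h6 : 27 ≤ u := by (clear * - h3m h3m2 hu; omega)
  have h7 : 3 * ((4 * c + 1) * (2 * c + 1)) ≤ 4 * (8 * c + 3) := by (clear * - hbound hle hc h5; omega)
  have h8 : 3 ≤ c := by (clear * - hc h6; omega)
  nlinarith only [h3m, h3m2, hu, hc, h7]

/-- **All rows.** -/
theorem main (h : Cand2 e k S) (hk : IsKnownSimple' S) (hnc : ¬ IsMulCommutative S) :
    IsAlternating S ∨ IsSporadicGroup S ∨ IsLieTypeChar 2 S := by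
  rcases list_no_eight hk h.ne_eight with h1 | h1 | h1 | h1 | h1
  · exfalso
    apply hnc
    have hp : Fact (Nat.card S).Prime := ⟨h1⟩
    have := isCyclic_of_prime_card (α := S) (p := Nat.card S) rfl
    exact ⟨⟨fun a b => (IsCyclic.commGroup (α := S)).mul_comm a b⟩⟩
  · exact Or.inl h1
  · exact Or.inr (Or.inl h1)
  · exact Or.inr (Or.inr h1)
  · exfalso
    rcases h1 with ⟨F, iF, iF', h2, h4, ⟨E⟩⟩ | ⟨F, iF, iF', h2, ⟨E⟩⟩ | h1
    · exact h.psl2 h2 h4 E
    · exact h.psp4 h2 E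
    · exact h.ree h1

end Cand2

end Cfsg.Agent.H402.Rec
end

-- part: H402/Rec/RowsTwo_mg
section

end

-- part: H402/Rec/Psl25
section
set_option linter.all false
open scoped Cfsg.Agent.FastGrp

/-!
# The candidate `PSL_2(25)` for `PSL_4(3)`
-/

set_option autoImplicit false

namespace Cfsg.Agent.H402.Rec

open Subgroup Cfsg.Agent.ClassicalGeometry

variable {G : Type*} [Group G] [Finite G]

/-- Two commuting elements of order `p` generating a noncyclic group, in a group of order divisible by `p ^ 2`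
without elements of order `p ^ 2`. -/
theorem exists_pair {S : Type*} [Group S] [Finite S] {p : ℕ} (hp : p.Prime) (hd : p ^ 2 ∣ Nat.card S)
    (hn : ∀ x : S, orderOf x ≠ p ^ 2) : ∃ a b : S, orderOf a = p ∧ orderOf b = p ∧ a * b = b * a ∧ b ∉ zpowers a := by
  have := Fact.mk hp
  obtain ⟨P, hP⟩ := Sylow.exists_subgroup_card_pow_prime p hd
  have hcomm : ∀ a b : ↥P, a * b = b * a := by
    have h1 := IsPGroup.commutative_of_card_eq_prime_sq hP
    exact fun a b => h1 a b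
  have hord : ∀ a : ↥P, a ≠ 1 → orderOf a = p := by
    intro a ha
    have h1 : orderOf a ∣ p ^ 2 := by rw [← hP]; exact orderOf_dvd_natCard a
    obtain ⟨j, hj, hj2⟩ := (Nat.dvd_prime_pow hp).1 h1
    interval_cases j
    · rw [pow_zero, orderOf_eq_one_iff] at hj2
      exact absurd hj2 ha
    · rw [hj2, pow_one]
    · exfalso
      apply hn (a : S)
      rw [Subgroup.orderOf_coe, hj2]
  have hnt : Nontrivial ↥P := by
    rw [← Finite.one_lt_card_iff_nontrivial, hP]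
    exact Nat.one_lt_pow (by norm_num) hp.one_lt
  obtain ⟨a, ha⟩ := exists_ne (1 : ↥P)
  have ha' := hord a ha
  obtain ⟨b, hb⟩ : ∃ b : ↥P, b ∉ zpowers a := by
    by_contra hcon
    push Not at hcon
    have h1 : zpowers a = ⊤ := by
      rw [eq_top_iff]
      intro x _
      exact hcon x
    have h2 := Nat.card_zpowers a
    rw [h1, Subgroup.card_top, hP, ha'] at h2
    have h3 : p ^ 2 = p * p := by ring
    rw [h3] at h2
    have := hp.one_lt
    nlinarith
  have hb1 : b ≠ 1 := by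
    rintro rfl
    exact hb (one_mem _)
  refine ⟨a, b, by rw [Subgroup.orderOf_coe, ha'], by rw [Subgroup.orderOf_coe, hord b hb1],
    congrArg Subtype.val (hcomm a b), ?_⟩
  intro h
  obtain ⟨j, hj⟩ := mem_zpowers_iff.1 h
  exact hb (mem_zpowers_iff.2 ⟨j, Subtype.ext (by rw [Subgroup.coe_zpow, hj])⟩)

/-- The index of a simple normal subgroup with trivial centralizer. -/
theorem index_dvd {X : Type*} [Group X] [Finite X] (S : Subgroup X) [S.Normal]
    (hC : centralizer (S : Set X) = ⊥) {m : ℕ} (hm : Nat.card (MulAut ↥S) = m * Nat.card ↥S) : S.index ∣ m := by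
  let φ : X →* MulAut ↥S := MulAut.conjNormal
  have hφ : Function.Injective φ := by
    rw [injective_iff_map_eq_one]
    intro y hy
    have h3 : y ∈ centralizer (S : Set X) := by
      rw [mem_centralizer_iff]
      intro t ht
      have h4 := congrArg (fun f : MulAut ↥S => ((f ⟨t, ht⟩ : ↥S) : X)) hy
      simp only [φ, MulAut.conjNormal_apply, MulAut.one_apply] at h4
      calc t * y = (y * t * y⁻¹) * y := by rw [h4]
        _ = y * t := by group
    rwa [hC, mem_bot] at h3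
  have h1 : Nat.card X ∣ Nat.card (MulAut ↥S) := Subgroup.card_dvd_of_injective φ hφ
  rw [hm, ← Subgroup.index_mul_card S] at h1
  exact Nat.dvd_of_mul_dvd_mul_right Nat.card_pos h1

/-- **`PSL_2(25)` is not the section.** -/
theorem Fact3.not_psl25 (h : Fact3 true 1 G) (K : Subgroup G) [K.Normal] (S : Subgroup (G ⧸ K)) [S.Normal]
    (hC : centralizer (S : Set (G ⧸ K)) = ⊥) {F : Type*} [Field F] [Fintype F] (hF : Fintype.card F = 25)
    (E : ↥S ≃* Matrix.ProjectiveSpecialLinearGroup (Fin 2) F) : False := by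
  have hspec : ∀ x : G, orderOf x ∣ 13 ∨ orderOf x ∣ 20 ∨ orderOf x ∣ 24 ∨ orderOf x = 9 := by
    intro x
    have h1 := h.spec x
    have e1 : N3 true (3 ^ 1) = 13 := by decide
    have e2 : N4 true (3 ^ 1) = 20 := by decide
    have e3 : 3 * ((3 ^ 1) ^ 2 - 1) = 24 := by norm_num
    rwa [e1, e2, e3] at h1
  have hcard : Nat.card ↥S = 7800 := by
    have h1 := PSL2Basic.card_PSL2_gcd (F := F)
    rw [hF] at h1
    rw [Nat.card_congr E.toEquiv]
    norm_num at h1
    omega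
  have hlift : ∀ x : ↥S, orderOf x ∣ 13 ∨ orderOf x ∣ 20 ∨ orderOf x ∣ 24 ∨ orderOf x = 9 := by
    intro x
    obtain ⟨g, hg⟩ := exists_lift_order K S x
    rw [← hg]
    exact hspec g
  obtain ⟨a, b, ha, hb, hab, hba⟩ := exists_pair (S := ↥S) (p := 5) (by norm_num) (by rw [hcard]; decide) (by
    intro x hx
    have h1 := hlift x
    rw [hx] at h1
    revert h1
    decide)
  have hK3 : ¬ 3 ∣ Nat.card ↥K := by
    intro h3
    obtain ⟨x, hx⟩ := AltG.adj_odd K Nat.prime_three (show Nat.Prime 5 by norm_num) (by norm_num) (by norm_num) h3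
      (a := ((a : ↥S) : G ⧸ K)) (b := ((b : ↥S) : G ⧸ K)) (by rw [Subgroup.orderOf_coe, ha])
      (by rw [Subgroup.orderOf_coe, hb]) (by rw [← Subgroup.coe_mul, hab, Subgroup.coe_mul]) (by
        intro h4
        obtain ⟨j, hj⟩ := mem_zpowers_iff.1 h4
        exact hba (mem_zpowers_iff.2 ⟨j, Subtype.ext (by rw [Subgroup.coe_zpow, hj])⟩))
    have h1 := hspec x
    rw [hx] at h1
    revert h1
    decide
  have hidx : S.index ∣ 4 := by
    apply index_dvd S hC
    have : Fact (Nat.Prime 5) := ⟨by norm_num⟩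
    have h1 : Nat.card (MulAut (Matrix.ProjectiveSpecialLinearGroup (Fin 2) F)) =
        4 * Nat.card (Matrix.ProjectiveSpecialLinearGroup (Fin 2) F) := by
      have h2 := S0813.result (F := F) 5 2 (by norm_num) (by rw [hF]; norm_num) 2 le_rfl (fun _ => by norm_num)
      rw [h2, if_pos rfl, PSL2Basic.card_PGL2]
      have h3 := PSL2Basic.card_PSL2_gcd (F := F)
      rw [hF] at h3 ⊢
      norm_num at h3 ⊢
      omega
    have e1 : Nat.card (MulAut ↥S) = Nat.card (MulAut (Matrix.ProjectiveSpecialLinearGroup (Fin 2) F)) :=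
      Nat.card_congr (MulAut.congr E).toEquiv
    rw [e1, h1, Nat.card_congr E.toEquiv]
  obtain ⟨g, hg⟩ := h.ex9
  obtain ⟨x, hx⟩ := exists_section K S (g := g) (by
    intro r hr hrd h1
    rw [hg] at hrd
    have h2 : r ∣ 3 ^ 2 := by simpa using hrd
    have h3 := (Nat.prime_dvd_prime_iff_eq hr Nat.prime_three).1 (hr.dvd_of_dvd_pow h2)
    subst h3
    rcases (Nat.prime_three.dvd_mul).1 h1 with h4 | h4
    · exact hK3 h4
    · have := h4.trans hidx
      revert this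
      decide)
  rw [hg] at hx
  have h5 : 9 ∣ Nat.card ↥S := by rw [← hx]; exact orderOf_dvd_natCard x
  rw [hcard] at h5
  revert h5
  decide

end Cfsg.Agent.H402.Rec

private theorem dce_31abdb1e1146 : _root_.True := by
  try have : _root_.True := by simp only [_root_.Matrix.ProjectiveSpecialLinearGroup.congr_simp]
  exact _root_.True.intro
end
end
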